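import Groth.Agent.LocImmersion.Models

/-! Gluing two finite-type models. -/

set_option autoImplicit false
set_option backward.isDefEq.respectTransparency false
set_option backward.isDefEq.respectTransparency.types false

universe u
open CategoryTheory Limits AlgebraicGeometry TopologicalSpace

namespace Groth.Agent.LocImmersion

theorem isPreimmersion_of_isLocImmersion {X Y : Scheme.{u}} [IsNoetherian X] {k : X ⟶ Y} (hk : LocImm.IsLocImmersion k) :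
    IsPreimmersion k :=
  haveI := surjectiveOnStalks hk.1
  ⟨isEmbedding hk⟩

theorem isNoetherian_opens {X : Scheme.{u}} [IsNoetherian X] (U : X.Opens) : IsNoetherian U.toScheme :=
  haveI : CompactSpace U.toScheme := U.ι.isOpenEmbedding.isInducing.noetherianSpace.compactSpace
  {}

theorem exists_glued_model {X S : Scheme.{u}} [IsNoetherian X] [IsNoetherian S] (f : X ⟶ S) [IsSeparated f]
    (U₁ U₂ : X.Opens) (hU : U₁ ⊔ U₂ = ⊤) (Y₁ Y₂ : Scheme.{u}) [IsNoetherian Y₁] [IsNoetherian Y₂]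
    (k₁ : U₁.toScheme ⟶ Y₁) (k₂ : U₂.toScheme ⟶ Y₂) (p₁ : Y₁ ⟶ S) (p₂ : Y₂ ⟶ S)
    (hk₁ : LocImm.IsLocImmersion k₁) (hk₂ : LocImm.IsLocImmersion k₂)
    [IsSeparated p₁] [IsSeparated p₂] [LocallyOfFiniteType p₁] [LocallyOfFiniteType p₂]
    (h₁ : k₁ ≫ p₁ = U₁.ι ≫ f) (h₂ : k₂ ≫ p₂ = U₂.ι ≫ f) :
    ∃ (Y : Scheme.{u}) (k : X ⟶ Y) (p : Y ⟶ S), IsNoetherian Y ∧ LocImm.IsLocImmersion k ∧ IsSeparated p ∧
      LocallyOfFiniteType p ∧ QuasiCompact p ∧ k ≫ p = f := by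
  haveI := isNoetherian_opens U₁
  haveI := isNoetherian_opens U₂
  haveI := isNoetherian_opens (U₁ ⊓ U₂)
  let j₁ : (U₁ ⊓ U₂).toScheme ⟶ U₁.toScheme := X.homOfLE inf_le_left
  let j₂ : (U₁ ⊓ U₂).toScheme ⟶ U₂.toScheme := X.homOfLE inf_le_right
  obtain ⟨O₁, hO₁, hO₁'⟩ := (isEmbedding hk₁).isInducing.isOpen_iff.mp j₁.isOpenEmbedding.isOpen_range
  obtain ⟨O₂, hO₂, hO₂'⟩ := (isEmbedding hk₂).isInducing.isOpen_iff.mp j₂.isOpenEmbedding.isOpen_range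
  let Y₁' : Y₁.Opens := ⟨O₁, hO₁⟩
  let Y₂' : Y₂.Opens := ⟨O₂, hO₂⟩
  haveI := isNoetherian_opens Y₁'
  haveI := isNoetherian_opens Y₂'
  have hr₁ : Set.range (j₁ ≫ k₁) ⊆ Set.range Y₁'.ι := by
    rintro _ ⟨w, rfl⟩
    rw [Scheme.Opens.range_ι]
    exact (Set.ext_iff.mp hO₁' (j₁ w)).mpr ⟨w, rfl⟩
  have hr₂ : Set.range (j₂ ≫ k₂) ⊆ Set.range Y₂'.ι := by
    rintro _ ⟨w, rfl⟩
    rw [Scheme.Opens.range_ι]
    exact (Set.ext_iff.mp hO₂' (j₂ w)).mpr ⟨w, rfl⟩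
  let f₁ := IsOpenImmersion.lift Y₁'.ι (j₁ ≫ k₁) hr₁
  let f₂ := IsOpenImmersion.lift Y₂'.ι (j₂ ≫ k₂) hr₂
  have hf₁e : f₁ ≫ Y₁'.ι = j₁ ≫ k₁ := IsOpenImmersion.lift_fac _ _ _
  have hf₂e : f₂ ≫ Y₂'.ι = j₂ ≫ k₂ := IsOpenImmersion.lift_fac _ _ _
  have hcomm : f₁ ≫ Y₁'.ι ≫ p₁ = f₂ ≫ Y₂'.ι ≫ p₂ := by
    rw [reassoc_of% hf₁e, reassoc_of% hf₂e, h₁, h₂]
    simp [j₁, j₂]
  obtain ⟨W, k, g₁, g₂, hWn, hk, hg₁, hg₂, hg, hkg₁, hkg₂⟩ := exists_common_open f₁ f₂ (Y₁'.ι ≫ p₁) (Y₂'.ι ≫ p₂)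
    (isLocImmersion_of_comp_openImmersion Y₁'.ι (by rw [hf₁e]; exact isLocImmersion_openImmersion_comp j₁ hk₁))
    (isLocImmersion_of_comp_openImmersion Y₂'.ι (by rw [hf₂e]; exact isLocImmersion_openImmersion_comp j₂ hk₂)) hcomm
  obtain ⟨W₀, hW₀, hW₀max⟩ := exists_open_maximal_mem_range hk.1
  let a₀ : W₀.toScheme ⟶ Y₁ := W₀.ι ≫ g₁ ≫ Y₁'.ι
  let b₀ : W₀.toScheme ⟶ Y₂ := W₀.ι ≫ g₂ ≫ Y₂'.ι
  have hab : a₀ ≫ p₁ = b₀ ≫ p₂ := by simp only [a₀, b₀, Category.assoc, hg]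
  let P := pullback p₁ p₂
  haveI : IsLocallyNoetherian P := LocallyOfFiniteType.isLocallyNoetherian (pullback.fst p₁ p₂)
  haveI : CompactSpace P := QuasiCompact.compactSpace_of_compactSpace (pullback.fst p₁ p₂)
  haveI : IsNoetherian P := {}
  let δ : W₀.toScheme ⟶ P := pullback.lift a₀ b₀ hab
  haveI : IsImmersion δ := by
    haveI : IsImmersion (δ ≫ pullback.fst p₁ p₂) := by simp only [δ, pullback.lift_fst]; infer_instance
    exact IsImmersion.of_comp δ (pullback.fst p₁ p₂)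
  let k₀ : (U₁ ⊓ U₂).toScheme ⟶ W₀.toScheme := IsOpenImmersion.lift W₀.ι k (by rw [Scheme.Opens.range_ι]; exact hW₀)
  have hk₀ : k₀ ≫ W₀.ι = k := IsOpenImmersion.lift_fac _ _ _
  have ha₀ : k₀ ≫ a₀ = j₁ ≫ k₁ := by rw [reassoc_of% hk₀, reassoc_of% hkg₁, hf₁e]
  have hb₀ : k₀ ≫ b₀ = j₂ ≫ k₂ := by rw [reassoc_of% hk₀, reassoc_of% hkg₂, hf₂e]
  let A₁ := Set.range k₁
  let A₂ := Set.range k₂
  let κ : pullback (U₁.ι ≫ f) (U₂.ι ≫ f) ⟶ P :=
    pullback.map _ _ _ _ k₁ k₂ (𝟙 S) (by simp [h₁]) (by simp [h₂])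
  haveI : IsPreimmersion k₁ := isPreimmersion_of_isLocImmersion hk₁
  haveI : IsPreimmersion k₂ := isPreimmersion_of_isLocImmersion hk₂
  have hκ : IsPreimmersion κ := MorphismProperty.pullback_map (P := @IsPreimmersion) ‹_› ‹_› (by simp [h₁]) (by simp [h₂])
  let Δ : (U₁ ⊓ U₂).toScheme ⟶ pullback (U₁.ι ≫ f) (U₂.ι ≫ f) := pullback.lift j₁ j₂ (by simp [j₁, j₂])
  have hΔκ : Δ ≫ κ = k₀ ≫ δ := by apply pullback.hom_ext <;> simp [Δ, κ, δ, ha₀, hb₀]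
  have hΔc : IsClosed (Set.range Δ) := by
    let μ : pullback (U₁.ι ≫ f) (U₂.ι ≫ f) ⟶ pullback f f :=
      pullback.map _ _ _ _ U₁.ι U₂.ι (𝟙 S) (by simp) (by simp)
    have : Set.range Δ = μ ⁻¹' Set.range (pullback.diagonal f) := by
      ext z
      have hw : Δ ≫ μ = (U₁ ⊓ U₂).ι ≫ pullback.diagonal f := by apply pullback.hom_ext <;> simp [Δ, μ, j₁, j₂]
      constructor
      · rintro ⟨w, rfl⟩
        exact ⟨(U₁ ⊓ U₂).ι w, by rw [← Scheme.Hom.comp_apply, ← Scheme.Hom.comp_apply, hw]⟩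
      · rintro ⟨y, hy⟩
        have h3 : U₁.ι (pullback.fst (U₁.ι ≫ f) (U₂.ι ≫ f) z) = y := by
          rw [← Scheme.Hom.comp_apply, show pullback.fst (U₁.ι ≫ f) (U₂.ι ≫ f) ≫ U₁.ι = μ ≫ pullback.fst f f by simp [μ],
            Scheme.Hom.comp_apply, ← hy, ← Scheme.Hom.comp_apply, pullback.diagonal_fst]
          rfl
        have h4 : U₂.ι (pullback.snd (U₁.ι ≫ f) (U₂.ι ≫ f) z) = y := by
          rw [← Scheme.Hom.comp_apply, show pullback.snd (U₁.ι ≫ f) (U₂.ι ≫ f) ≫ U₂.ι = μ ≫ pullback.snd f f by simp [μ],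
            Scheme.Hom.comp_apply, ← hy, ← Scheme.Hom.comp_apply, pullback.diagonal_snd]
          rfl
        have hy1 : y ∈ U₁ := h3 ▸ (pullback.fst (U₁.ι ≫ f) (U₂.ι ≫ f) z).2
        have hy2 : y ∈ U₂ := h4 ▸ (pullback.snd (U₁.ι ≫ f) (U₂.ι ≫ f) z).2
        refine ⟨⟨y, hy1, hy2⟩, μ.isOpenEmbedding.injective ?_⟩
        rw [← Scheme.Hom.comp_apply, hw, ← hy]
        rfl
    rw [this]
    exact (pullback.diagonal f).isClosedEmbedding.isClosed_range.preimage μ.continuous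
  -- the key claim
  have claim : ∀ d ∈ closure (Set.range δ), pullback.fst p₁ p₂ d ∈ A₁ → pullback.snd p₁ p₂ d ∈ A₂ → d ∈ Set.range δ := by
    intro d hd hd₁ hd₂
    have hsub : Set.range δ ⊆ closure (κ '' Set.range Δ) := by
      rintro _ ⟨w, rfl⟩
      obtain ⟨η, hηw, hη⟩ := exists_maximal w
      obtain ⟨u, hu⟩ := hW₀max η.1 η.2 fun y hy => congrArg Subtype.val
        (hη ⟨y, hy.mem_open W₀.isOpen η.2⟩ ((subtype_specializes_iff _ _).mpr hy))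
      have hu' : k₀ u = η := W₀.ι.isOpenEmbedding.injective (by
        rw [← Scheme.Hom.comp_apply, hk₀, hu]; rfl)
      refine (hηw.map δ.continuous).mem_closed isClosed_closure (subset_closure ⟨Δ u, ⟨u, rfl⟩, ?_⟩)
      rw [← Scheme.Hom.comp_apply, hΔκ, Scheme.Hom.comp_apply, hu']
    have hd' := closure_minimal hsub isClosed_closure hd
    obtain ⟨e, rfl⟩ : d ∈ Set.range κ := by rw [Scheme.Pullback.range_map]; exact ⟨hd₁, hd₂⟩
    have : e ∈ closure (Set.range Δ) := by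
      rw [κ.isEmbedding.closure_eq_preimage_closure_image]; exact hd'
    rw [hΔc.closure_eq] at this
    obtain ⟨u, rfl⟩ := this
    exact ⟨k₀ u, by rw [← Scheme.Hom.comp_apply, ← hΔκ]; rfl⟩
  -- the shrinking
  let D : Set P := closure (Set.range δ) \ Set.range δ
  have hD : IsClosed D := by
    have := isLocallyClosed_iff_isOpen_coborder.mp δ.isLocallyClosed_range
    simpa [coborder, D] using this.isClosed_compl
  let V₂ : Y₂.Opens := ⟨(closure (pullback.snd p₁ p₂ '' (D ∩ pullback.fst p₁ p₂ ⁻¹' A₁)))ᶜ, isClosed_closure.isOpen_compl⟩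
  have hV₂ : A₂ ⊆ V₂ := fun y hy hy' => disjoint_closure_image (pullback.snd p₁ p₂) hD
    ((stableUnderGeneralization_range hk₁.1).preimage (pullback.fst p₁ p₂).continuous)
    (stableUnderGeneralization_range hk₂.1) (fun d hd h1 h2 => hd.2 (claim d hd.1 h1 h2)) y hy' hy
  let V₁ : Y₁.Opens := ⟨(closure (pullback.fst p₁ p₂ '' (D ∩ pullback.snd p₁ p₂ ⁻¹' (V₂ : Set Y₂))))ᶜ, isClosed_closure.isOpen_compl⟩
  have hV₁ : A₁ ⊆ V₁ := fun y hy hy' => disjoint_closure_image (pullback.fst p₁ p₂) hD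
    ((V₂.isOpen.stableUnderGeneralization).preimage (pullback.snd p₁ p₂).continuous)
    (stableUnderGeneralization_range hk₁.1) (fun d hd h2 h1 => h2 (subset_closure ⟨d, ⟨hd, h1⟩, rfl⟩)) y hy' hy
  haveI := isNoetherian_opens V₁
  haveI := isNoetherian_opens V₂
  let W₁ : W₀.toScheme.Opens := a₀ ⁻¹ᵁ V₁ ⊓ b₀ ⁻¹ᵁ V₂
  let a := IsOpenImmersion.lift V₁.ι (W₁.ι ≫ a₀) (by rintro _ ⟨w, rfl⟩; rw [Scheme.Opens.range_ι]; exact w.2.1)
  let b := IsOpenImmersion.lift V₂.ι (W₁.ι ≫ b₀) (by rintro _ ⟨w, rfl⟩; rw [Scheme.Opens.range_ι]; exact w.2.2)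
  have hae : a ≫ V₁.ι = W₁.ι ≫ a₀ := IsOpenImmersion.lift_fac _ _ _
  have hbe : b ≫ V₂.ι = W₁.ι ≫ b₀ := IsOpenImmersion.lift_fac _ _ _
  haveI : IsOpenImmersion a := by
    haveI : IsOpenImmersion (a ≫ V₁.ι) := by rw [hae]; infer_instance
    exact IsOpenImmersion.of_comp a V₁.ι
  haveI : IsOpenImmersion b := by
    haveI : IsOpenImmersion (b ≫ V₂.ι) := by rw [hbe]; infer_instance
    exact IsOpenImmersion.of_comp b V₂.ι
  have hab' : a ≫ V₁.ι ≫ p₁ = b ≫ V₂.ι ≫ p₂ := by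
    rw [reassoc_of% hae, reassoc_of% hbe, hab]
  have hclosed : IsClosed (Set.range (pullback.lift a b hab')) := by
    let m : pullback (V₁.ι ≫ p₁) (V₂.ι ≫ p₂) ⟶ P := pullback.map _ _ _ _ V₁.ι V₂.ι (𝟙 S) (by simp) (by simp)
    have hm : pullback.lift a b hab' ≫ m = W₁.ι ≫ δ := by apply pullback.hom_ext <;> simp [m, δ, hae, hbe]
    have : Set.range (pullback.lift a b hab') = m ⁻¹' closure (Set.range δ) := by
      ext z
      have hz₁ : pullback.fst p₁ p₂ (m z) ∈ V₁ := by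
        rw [← Scheme.Hom.comp_apply, show m ≫ pullback.fst p₁ p₂ = pullback.fst _ _ ≫ V₁.ι by simp [m]]
        exact (pullback.fst (V₁.ι ≫ p₁) (V₂.ι ≫ p₂) z).2
      have hz₂ : pullback.snd p₁ p₂ (m z) ∈ V₂ := by
        rw [← Scheme.Hom.comp_apply, show m ≫ pullback.snd p₁ p₂ = pullback.snd _ _ ≫ V₂.ι by simp [m]]
        exact (pullback.snd (V₁.ι ≫ p₁) (V₂.ι ≫ p₂) z).2
      constructor
      · rintro ⟨w, rfl⟩
        exact subset_closure ⟨W₁.ι w, by rw [← Scheme.Hom.comp_apply, ← Scheme.Hom.comp_apply, hm]⟩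
      · intro hz
        obtain ⟨w, hw⟩ : m z ∈ Set.range δ := by
          by_contra hn
          exact hz₁ (subset_closure ⟨m z, ⟨⟨hz, hn⟩, hz₂⟩, rfl⟩)
        have hw₁ : a₀ w ∈ V₁ := by
          rw [show a₀ = δ ≫ pullback.fst p₁ p₂ by simp [δ], Scheme.Hom.comp_apply, hw]; exact hz₁
        have hw₂ : b₀ w ∈ V₂ := by
          rw [show b₀ = δ ≫ pullback.snd p₁ p₂ by simp [δ], Scheme.Hom.comp_apply, hw]; exact hz₂
        refine ⟨⟨w, hw₁, hw₂⟩, m.isOpenEmbedding.injective ?_⟩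
        rw [← Scheme.Hom.comp_apply, hm, ← hw]
        rfl
    rw [this]
    exact isClosed_closure.preimage m.continuous
  let p : pushout a b ⟶ S := pushout.desc (V₁.ι ≫ p₁) (V₂.ι ≫ p₂) hab'
  have hsep : IsSeparated p := isSeparated_pushout a b _ _ hab' hclosed
  haveI := isOpenImmersion_pushoutInl a b
  haveI := isOpenImmersion_pushoutInr a b
  have hft : LocallyOfFiniteType p := by
    let 𝒰 : (pushout a b).OpenCover :=
      { I₀ := ULift.{u} Bool, X := fun i => cond i.down V₁.toScheme V₂.toScheme,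
        f := fun i => match i with
          | ⟨true⟩ => pushout.inl a b
          | ⟨false⟩ => pushout.inr a b,
        mem₀ := by
          rw [Scheme.presieve₀_mem_precoverage_iff]
          refine ⟨fun x => ?_, fun ⟨i⟩ => by cases i <;> assumption⟩
          rcases Set.eq_univ_iff_forall.mp (pushout_range_union a b) x with hx | hx
          · exact ⟨⟨true⟩, hx⟩
          · exact ⟨⟨false⟩, hx⟩ }
    refine IsZariskiLocalAtSource.of_openCover 𝒰 fun i => ?_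
    rcases i with ⟨_ | _⟩
    · change LocallyOfFiniteType (pushout.inr a b ≫ p)
      simp only [p, pushout.inr_desc]; infer_instance
    · change LocallyOfFiniteType (pushout.inl a b ≫ p)
      simp only [p, pushout.inl_desc]; infer_instance
  haveI : IsNoetherian (pushout a b) := by
    haveI : IsLocallyNoetherian (pushout a b) := LocallyOfFiniteType.isLocallyNoetherian p
    haveI : CompactSpace (pushout a b : Scheme.{u}) := ⟨by
      rw [← pushout_range_union a b]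
      exact (isCompact_range (pushout.inl a b).continuous).union (isCompact_range (pushout.inr a b).continuous)⟩
    exact {}
  -- the morphism
  let l₁ := IsOpenImmersion.lift V₁.ι k₁ (by rw [Scheme.Opens.range_ι]; exact hV₁)
  let l₂ := IsOpenImmersion.lift V₂.ι k₂ (by rw [Scheme.Opens.range_ι]; exact hV₂)
  have hl₁ : l₁ ≫ V₁.ι = k₁ := IsOpenImmersion.lift_fac _ _ _
  have hl₂ : l₂ ≫ V₂.ι = k₂ := IsOpenImmersion.lift_fac _ _ _
  have hk₁W : Set.range k₀ ⊆ Set.range W₁.ι := by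
    rintro _ ⟨u, rfl⟩
    rw [Scheme.Opens.range_ι]
    exact ⟨hV₁ ⟨j₁ u, by rw [← Scheme.Hom.comp_apply, ← Scheme.Hom.comp_apply, ha₀]⟩,
      hV₂ ⟨j₂ u, by rw [← Scheme.Hom.comp_apply, ← Scheme.Hom.comp_apply, hb₀]⟩⟩
  let k₁' := IsOpenImmersion.lift W₁.ι k₀ hk₁W
  have hk₁' : k₁' ≫ W₁.ι = k₀ := IsOpenImmersion.lift_fac _ _ _
  have e₁ : j₁ ≫ l₁ = k₁' ≫ a := by
    rw [← cancel_mono V₁.ι, Category.assoc, Category.assoc, hl₁, hae, reassoc_of% hk₁', ha₀]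
  have e₂ : j₂ ≫ l₂ = k₁' ≫ b := by
    rw [← cancel_mono V₂.ι, Category.assoc, Category.assoc, hl₂, hbe, reassoc_of% hk₁', hb₀]
  obtain ⟨K, hK₁, hK₂⟩ := exists_glue U₁ U₂ hU (l₁ ≫ pushout.inl a b) (l₂ ≫ pushout.inr a b)
    (by rw [reassoc_of% e₁, reassoc_of% e₂, pushout.condition])
  have hl₁i : LocImm.IsLocImmersion l₁ := isLocImmersion_of_comp_openImmersion V₁.ι (by rw [hl₁]; exact hk₁)
  have hl₂i : LocImm.IsLocImmersion l₂ := isLocImmersion_of_comp_openImmersion V₂.ι (by rw [hl₂]; exact hk₂)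
  have hcov : ∀ x : X, x ∈ U₁ ∨ x ∈ U₂ := fun x => by
    have : x ∈ U₁ ⊔ U₂ := by rw [hU]; trivial
    exact this
  have hK₁' : ∀ x : U₁.toScheme, K x.1 = pushout.inl a b (l₁ x) := fun x => by
    change K (U₁.ι x) = _
    rw [← Scheme.Hom.comp_apply, hK₁]; rfl
  have hK₂' : ∀ x : U₂.toScheme, K x.1 = pushout.inr a b (l₂ x) := fun x => by
    change K (U₂.ι x) = _
    rw [← Scheme.Hom.comp_apply, hK₂]; rfl
  have hloc : LocImm.IsLocalizing K := by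
    intro x
    rcases hcov x with hx | hx
    · exact locAt_of_comp_isOpenImmersion U₁.ι (x := ⟨x, hx⟩)
        (by rw [hK₁]; exact locAt_comp_isOpenImmersion_right _ (hl₁i.1 _))
    · exact locAt_of_comp_isOpenImmersion U₂.ι (x := ⟨x, hx⟩)
        (by rw [hK₂]; exact locAt_comp_isOpenImmersion_right _ (hl₂i.1 _))
  have hcross : ∀ (x₁ : U₁.toScheme) (x₂ : U₂.toScheme), K x₁.1 = K x₂.1 → x₁.1 = x₂.1 := by
    intro x₁ x₂ e
    rw [hK₁', hK₂'] at e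
    obtain ⟨w, hw, -⟩ := pushout_exists_of_inl_eq_inr a b e
    have hmem : k₁ x₁ ∈ O₁ := by
      rw [← hl₁, Scheme.Hom.comp_apply, ← hw, ← Scheme.Hom.comp_apply, hae]
      exact ((W₁.ι ≫ W₀.ι ≫ g₁) w).2
    obtain ⟨u, hu⟩ := (Set.ext_iff.mp hO₁' x₁).mp hmem
    have hx₂ : x₁.1 ∈ U₂ := by rw [← hu]; simp [j₁]; exact u.2.2
    have : (⟨x₁.1, hx₂⟩ : U₂.toScheme) = x₂ := hl₂i.2 ((pushout.inr a b).isOpenEmbedding.injective (by
      rw [← hK₂', ← e, ← hK₁']))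
    exact congrArg Subtype.val this
  have hinj : Function.Injective K := by
    intro x y e
    rcases hcov x with hx | hx <;> rcases hcov y with hy | hy
    · exact congrArg Subtype.val (hl₁i.2 ((pushout.inl a b).isOpenEmbedding.injective
        (((hK₁' ⟨x, hx⟩).symm.trans e).trans (hK₁' ⟨y, hy⟩))))
    · exact hcross ⟨x, hx⟩ ⟨y, hy⟩ e
    · exact (hcross ⟨y, hy⟩ ⟨x, hx⟩ e.symm).symm
    · exact congrArg Subtype.val (hl₂i.2 ((pushout.inr a b).isOpenEmbedding.injective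
        (((hK₂' ⟨x, hx⟩).symm.trans e).trans (hK₂' ⟨y, hy⟩))))
  refine ⟨pushout a b, K, p, inferInstance, ⟨hloc, hinj⟩, hsep, hft, inferInstance, ?_⟩
  refine Scheme.Cover.hom_ext (X.openCoverOfIsOpenCover (fun i : ULift.{u} Bool => cond i.down U₁ U₂) ?_) _ _ ?_
  · refine eq_top_iff.mpr fun x _ => ?_
    rw [Opens.mem_iSup]
    rcases hcov x with hx | hx
    · exact ⟨⟨true⟩, hx⟩
    · exact ⟨⟨false⟩, hx⟩
  · rintro ⟨_ | _⟩
    · change U₂.ι ≫ K ≫ p = U₂.ι ≫ f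
      rw [reassoc_of% hK₂, pushout.inr_desc, reassoc_of% hl₂, h₂]
    · change U₁.ι ≫ K ≫ p = U₁.ι ≫ f
      rw [reassoc_of% hK₁, pushout.inl_desc, reassoc_of% hl₁, h₁]

end Groth.Agent.LocImmersion
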