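import Mathlib

/-! Gluing two schemes along an open; morphisms out of a scheme covered by two opens. -/

set_option autoImplicit false
set_option backward.isDefEq.respectTransparency false
set_option backward.isDefEq.respectTransparency.types false

universe u
open CategoryTheory Limits AlgebraicGeometry TopologicalSpace

namespace Groth.Agent.LocImmersion

variable {W Y₁ Y₂ : Scheme.{u}} (a : W ⟶ Y₁) (b : W ⟶ Y₂) [IsOpenImmersion a] [IsOpenImmersion b]

theorem isOpenImmersion_pushoutInl : IsOpenImmersion (pushout.inl a b) :=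
  inferInstanceAs (IsOpenImmersion (colimit.ι (span a b) WalkingSpan.left))

theorem isOpenImmersion_pushoutInr : IsOpenImmersion (pushout.inr a b) :=
  inferInstanceAs (IsOpenImmersion (colimit.ι (span a b) WalkingSpan.right))

theorem pushout_range_union : Set.range (pushout.inl a b) ∪ Set.range (pushout.inr a b) = Set.univ := by
  refine Set.eq_univ_of_forall fun x => ?_
  obtain ⟨i, xi, rfl⟩ := Scheme.IsLocallyDirected.ι_jointly_surjective (span a b) x
  obtain (_ | (_ | _)) := i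
  · refine Or.inl ⟨a xi, ?_⟩
    change (a ≫ pushout.inl a b) xi = _
    rw [show a ≫ pushout.inl a b = colimit.ι (span a b) WalkingSpan.zero from colimit.w (span a b) WalkingSpan.Hom.fst]
    rfl
  · exact Or.inl ⟨xi, rfl⟩
  · exact Or.inr ⟨xi, rfl⟩

theorem pushout_exists_of_inl_eq_inr {y₁ : Y₁} {y₂ : Y₂} (h : pushout.inl a b y₁ = pushout.inr a b y₂) :
    ∃ w, a w = y₁ ∧ b w = y₂ := by
  obtain ⟨k, fi, fj, x, h1, h2⟩ := (Scheme.IsLocallyDirected.ι_eq_ι_iff (span a b)).mp h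
  obtain (_ | (_ | _)) := k
  · refine ⟨x, ?_, ?_⟩
    · rw [← h1, Subsingleton.elim fi WalkingSpan.Hom.fst]; rfl
    · rw [← h2, Subsingleton.elim fj WalkingSpan.Hom.snd]; rfl
  · exact nomatch (show WidePushoutShape.Hom (some WalkingPair.left) (some WalkingPair.right) from fj)
  · exact nomatch (show WidePushoutShape.Hom (some WalkingPair.right) (some WalkingPair.left) from fi)

theorem isClosed_of_covering {P : Type*} [TopologicalSpace P] {s : Set P}
    (h : ∀ z, ∃ (Q : Type _) (_ : TopologicalSpace Q) (m : Q → P), Topology.IsOpenEmbedding m ∧ z ∈ Set.range m ∧ IsClosed (m ⁻¹' s)) :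
    IsClosed s := by
  refine isOpen_compl_iff.mp (isOpen_iff_forall_mem_open.mpr fun z hz => ?_)
  obtain ⟨Q, _, m, hm, ⟨q, rfl⟩, hc⟩ := h z
  exact ⟨m '' (m ⁻¹' s)ᶜ, by rintro _ ⟨x, hx, rfl⟩; exact hx, hm.isOpenMap _ hc.isOpen_compl, ⟨q, hz, rfl⟩⟩

theorem isSeparated_pushout {S : Scheme.{u}} (p₁ : Y₁ ⟶ S) (p₂ : Y₂ ⟶ S) [IsSeparated p₁] [IsSeparated p₂]
    (h : a ≫ p₁ = b ≫ p₂) (hc : IsClosed (Set.range (pullback.lift a b h))) :
    IsSeparated (pushout.desc p₁ p₂ h) := by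
  let p := pushout.desc p₁ p₂ h
  haveI := isOpenImmersion_pushoutInl a b
  haveI := isOpenImmersion_pushoutInr a b
  let Δ := pullback.diagonal p
  refine ⟨IsClosedImmersion.of_isPreimmersion _ ?_⟩
  let inl := pushout.inl a b
  let inr := pushout.inr a b
  have hl : inl ≫ p = p₁ := pushout.inl_desc _ _ _
  have hr : inr ≫ p = p₂ := pushout.inr_desc _ _ _
  -- a chart
  have key : ∀ {T T' Q : Scheme.{u}} (i : T ⟶ pushout a b) (i' : T' ⟶ pushout a b) (q : T ⟶ S) (q' : T' ⟶ S)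
      (hi : q ≫ 𝟙 S = i ≫ p) (hi' : q' ≫ 𝟙 S = i' ≫ p) [IsOpenImmersion i] [IsOpenImmersion i']
      (c : Q ⟶ T) (c' : Q ⟶ T') (hc : c ≫ q = c' ≫ q') (hQ : c ≫ i = c' ≫ i')
      (hint : ∀ t t', i t = i' t' → ∃ x, c x = t ∧ c' x = t'),
      IsClosed (Set.range (pullback.lift c c' hc)) →
      IsClosed (pullback.map q q' p p i i' (𝟙 S) hi hi' ⁻¹' Set.range Δ) := by
    intro T T' Q i i' q q' hi hi' _ _ c c' hc hQ hint hcl
    let m := pullback.map q q' p p i i' (𝟙 S) hi hi'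
    have hm : pullback.lift c c' hc ≫ m = (c ≫ i) ≫ Δ := by
      apply pullback.hom_ext <;> simp [m, Δ, hQ]
    suffices m ⁻¹' Set.range Δ = Set.range (pullback.lift c c' hc) by rw [this]; exact hcl
    ext z
    constructor
    · rintro ⟨y, hy⟩
      have h1 : i (pullback.fst q q' z) = y := by
        rw [← Scheme.Hom.comp_apply, show pullback.fst q q' ≫ i = m ≫ pullback.fst p p by simp [m],
          Scheme.Hom.comp_apply, ← hy, ← Scheme.Hom.comp_apply, pullback.diagonal_fst]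
        rfl
      have h2 : i' (pullback.snd q q' z) = y := by
        rw [← Scheme.Hom.comp_apply, show pullback.snd q q' ≫ i' = m ≫ pullback.snd p p by simp [m],
          Scheme.Hom.comp_apply, ← hy, ← Scheme.Hom.comp_apply, pullback.diagonal_snd]
        rfl
      obtain ⟨x, hx, -⟩ := hint _ _ (h1.trans h2.symm)
      refine ⟨x, m.isOpenEmbedding.injective ?_⟩
      rw [← hy, ← Scheme.Hom.comp_apply, hm, Scheme.Hom.comp_apply, ← h1, Scheme.Hom.comp_apply, hx]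
    · rintro ⟨x, rfl⟩
      exact ⟨(c ≫ i) x, by rw [← Scheme.Hom.comp_apply, ← Scheme.Hom.comp_apply, hm]⟩
  have hlift : IsClosed (Set.range (pullback.lift b a h.symm)) := by
    rw [show pullback.lift b a h.symm = pullback.lift a b h ≫ (pullbackSymmetry p₁ p₂).hom by
      apply pullback.hom_ext <;> simp, Scheme.Hom.comp_base, TopCat.coe_comp, Set.range_comp]
    exact (pullbackSymmetry p₁ p₂).hom.homeomorph.isClosedMap _ hc
  have hdiag : ∀ {T : Scheme.{u}} (q : T ⟶ S) [IsSeparated q], IsClosed (Set.range (pullback.lift (𝟙 T) (𝟙 T) (rfl : 𝟙 T ≫ q = 𝟙 T ≫ q))) := by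
    intro T q _
    exact (pullback.diagonal q).isClosedEmbedding.isClosed_range
  refine isClosed_of_covering fun z => ?_
  have hR := Set.eq_univ_iff_forall.mp (pushout_range_union a b)
  have e₁ : p₁ ≫ 𝟙 S = inl ≫ p := by simp [hl]
  have e₂ : p₂ ≫ 𝟙 S = inr ≫ p := by simp [hr]
  have hpush : a ≫ inl = b ≫ inr := pushout.condition
  rcases hR (pullback.fst p p z) with h1 | h1 <;> rcases hR (pullback.snd p p z) with h2 | h2
  · exact ⟨_, _, pullback.map p₁ p₁ p p inl inl (𝟙 S) e₁ e₁, Scheme.Hom.isOpenEmbedding _,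
      by rw [Scheme.Pullback.range_map]; exact ⟨h1, h2⟩,
      key inl inl p₁ p₁ e₁ e₁ (𝟙 _) (𝟙 _) rfl rfl (fun t t' e => ⟨t, rfl, inl.isOpenEmbedding.injective e⟩) (hdiag p₁)⟩
  · exact ⟨_, _, pullback.map p₁ p₂ p p inl inr (𝟙 S) e₁ e₂, Scheme.Hom.isOpenEmbedding _,
      by rw [Scheme.Pullback.range_map]; exact ⟨h1, h2⟩,
      key inl inr p₁ p₂ e₁ e₂ a b h hpush (fun t t' e => pushout_exists_of_inl_eq_inr a b e) hc⟩
  · exact ⟨_, _, pullback.map p₂ p₁ p p inr inl (𝟙 S) e₂ e₁, Scheme.Hom.isOpenEmbedding _,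
      by rw [Scheme.Pullback.range_map]; exact ⟨h1, h2⟩,
      key inr inl p₂ p₁ e₂ e₁ b a h.symm hpush.symm (fun t t' e => by
        obtain ⟨x, hx, hx'⟩ := pushout_exists_of_inl_eq_inr a b e.symm
        exact ⟨x, hx', hx⟩) hlift⟩
  · exact ⟨_, _, pullback.map p₂ p₂ p p inr inr (𝟙 S) e₂ e₂, Scheme.Hom.isOpenEmbedding _,
      by rw [Scheme.Pullback.range_map]; exact ⟨h1, h2⟩,
      key inr inr p₂ p₂ e₂ e₂ (𝟙 _) (𝟙 _) rfl rfl (fun t t' e => ⟨t, rfl, inr.isOpenEmbedding.injective e⟩) (hdiag p₂)⟩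

/-- Morphisms out of a scheme covered by two opens. -/
theorem exists_glue {X Y : Scheme.{u}} (U₁ U₂ : X.Opens) (hU : U₁ ⊔ U₂ = ⊤) (f₁ : U₁.toScheme ⟶ Y) (f₂ : U₂.toScheme ⟶ Y)
    (h : X.homOfLE (inf_le_left : U₁ ⊓ U₂ ≤ U₁) ≫ f₁ = X.homOfLE (inf_le_right : U₁ ⊓ U₂ ≤ U₂) ≫ f₂) :
    ∃ f : X ⟶ Y, U₁.ι ≫ f = f₁ ∧ U₂.ι ≫ f = f₂ := by
  let U : Bool → X.Opens := fun i => cond i U₁ U₂
  let 𝒰 : X.OpenCover :=
    { I₀ := ULift.{u} Bool, X := fun i => (U i.down).toScheme, f := fun i => (U i.down).ι,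
      mem₀ := by
        rw [Scheme.presieve₀_mem_precoverage_iff]
        refine ⟨fun x => ?_, fun i => inferInstance⟩
        have hx : x ∈ U₁ ⊔ U₂ := by rw [hU]; trivial
        rcases hx with hx | hx
        · exact ⟨⟨true⟩, ⟨x, hx⟩, rfl⟩
        · exact ⟨⟨false⟩, ⟨x, hx⟩, rfl⟩ }
  let F : ∀ i, 𝒰.X i ⟶ Y := fun i => match i with
    | ⟨true⟩ => f₁
    | ⟨false⟩ => f₂
  have hp : IsPullback (X.homOfLE (inf_le_left : U₁ ⊓ U₂ ≤ U₁)) (X.homOfLE (inf_le_right : U₁ ⊓ U₂ ≤ U₂)) U₁.ι U₂.ι := by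
    refine IsOpenImmersion.isPullback _ _ _ _ (by simp) ?_
    simp only [Scheme.Opens.opensRange_ι, Scheme.opensRange_homOfLE]
    ext x
    exact ⟨fun h => ⟨h, x.2⟩, fun h => h.1⟩
  have H : pullback.fst U₁.ι U₂.ι ≫ f₁ = pullback.snd U₁.ι U₂.ι ≫ f₂ := by
    rw [← cancel_epi hp.isoPullback.hom, hp.isoPullback_hom_fst_assoc, hp.isoPullback_hom_snd_assoc, h]
  have hF : ∀ i j, pullback.fst (𝒰.f i) (𝒰.f j) ≫ F i = pullback.snd _ _ ≫ F j := by
    rintro ⟨_ | _⟩ ⟨_ | _⟩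
    · exact congrArg (· ≫ f₂) ((cancel_mono U₂.ι).mp pullback.condition)
    · change pullback.fst U₂.ι U₁.ι ≫ f₂ = pullback.snd U₂.ι U₁.ι ≫ f₁
      rw [← cancel_epi (pullbackSymmetry U₁.ι U₂.ι).hom, pullbackSymmetry_hom_comp_fst_assoc,
        pullbackSymmetry_hom_comp_snd_assoc, H]
    · exact H
    · exact congrArg (· ≫ f₁) ((cancel_mono U₁.ι).mp pullback.condition)
  exact ⟨Scheme.Cover.glueMorphisms 𝒰 F hF, 𝒰.ι_glueMorphisms F hF ⟨true⟩, 𝒰.ι_glueMorphisms F hF ⟨false⟩⟩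

end Groth.Agent.LocImmersion
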