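import Groth.Agent.LocImmersion.GlueModels

/-! Factorization of morphisms essentially of finite type. -/

set_option autoImplicit false
set_option backward.isDefEq.respectTransparency false
set_option backward.isDefEq.respectTransparency.types false

universe u
open CategoryTheory Limits AlgebraicGeometry TopologicalSpace

namespace Groth.Agent.LocImmersion

/-- `f` restricted to `U` has a model of finite type. -/
def HasModel {X S : Scheme.{u}} (f : X ⟶ S) (U : X.Opens) : Prop :=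
  ∃ (Y : Scheme.{u}) (k : U.toScheme ⟶ Y) (p : Y ⟶ S), IsNoetherian Y ∧ LocImm.IsLocImmersion k ∧ IsSeparated p ∧
      LocallyOfFiniteType p ∧ QuasiCompact p ∧ k ≫ p = U.ι ≫ f

theorem hasModel_sup {X S : Scheme.{u}} [IsNoetherian X] [IsNoetherian S] (f : X ⟶ S) [IsSeparated f]
    {U V : X.Opens} (hU : HasModel f U) (hV : HasModel f V) : HasModel f (U ⊔ V) := by
  obtain ⟨Y₁, k₁, p₁, _, hk₁, _, _, _, h₁⟩ := hU
  obtain ⟨Y₂, k₂, p₂, _, hk₂, _, _, _, h₂⟩ := hV
  let O := U ⊔ V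
  haveI := isNoetherian_opens O
  let U' : O.toScheme.Opens := O.ι ⁻¹ᵁ U
  let V' : O.toScheme.Opens := O.ι ⁻¹ᵁ V
  let i : U'.toScheme ⟶ U.toScheme := IsOpenImmersion.lift U.ι (U'.ι ≫ O.ι) (by
    rintro _ ⟨w, rfl⟩; rw [Scheme.Opens.range_ι]; exact w.2)
  let j : V'.toScheme ⟶ V.toScheme := IsOpenImmersion.lift V.ι (V'.ι ≫ O.ι) (by
    rintro _ ⟨w, rfl⟩; rw [Scheme.Opens.range_ι]; exact w.2)
  have hi : i ≫ U.ι = U'.ι ≫ O.ι := IsOpenImmersion.lift_fac _ _ _
  have hj : j ≫ V.ι = V'.ι ≫ O.ι := IsOpenImmersion.lift_fac _ _ _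
  haveI : IsOpenImmersion i := by
    haveI : IsOpenImmersion (i ≫ U.ι) := by rw [hi]; infer_instance
    exact IsOpenImmersion.of_comp i U.ι
  haveI : IsOpenImmersion j := by
    haveI : IsOpenImmersion (j ≫ V.ι) := by rw [hj]; infer_instance
    exact IsOpenImmersion.of_comp j V.ι
  refine exists_glued_model (O.ι ≫ f) U' V' ?_ Y₁ Y₂ (i ≫ k₁) (j ≫ k₂) p₁ p₂
    (isLocImmersion_openImmersion_comp i hk₁) (isLocImmersion_openImmersion_comp j hk₂) ?_ ?_
  · exact eq_top_iff.mpr fun x _ => x.2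
  · rw [Category.assoc, h₁, reassoc_of% hi]
  · rw [Category.assoc, h₂, reassoc_of% hj]

theorem hasModel_affine {X S : Scheme.{u}} [IsNoetherian X] [IsNoetherian S] (f : X ⟶ S)
    [EssFT.LocallyEssFiniteType f] (x : X) : ∃ V : X.Opens, x ∈ V ∧ HasModel f V := by
  obtain ⟨⟨U, hU⟩, ⟨V, hV⟩, hx, e, hess⟩ := EssFT.LocallyEssFiniteType.exists_appLE_essFiniteType (f := f) x
  simp only at hx e hess
  letI : Algebra Γ(S, U) Γ(X, V) := (f.appLE U V e).hom.toAlgebra
  haveI : Algebra.EssFiniteType Γ(S, U) Γ(X, V) := hess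
  let C := Algebra.EssFiniteType.subalgebra Γ(S, U) Γ(X, V)
  let α : CommRingCat.of Γ(S, U) ⟶ CommRingCat.of C := CommRingCat.ofHom (algebraMap Γ(S, U) C)
  let β : CommRingCat.of C ⟶ Γ(X, V) := CommRingCat.ofHom (algebraMap C Γ(X, V))
  have hαβ : α ≫ β = f.appLE U V e := CommRingCat.hom_ext (IsScalarTower.algebraMap_eq Γ(S, U) C Γ(X, V)).symm
  haveI : IsNoetherianRing Γ(S, U) := IsLocallyNoetherian.component_noetherian ⟨U, hU⟩
  haveI : IsNoetherianRing C := Algebra.FiniteType.isNoetherianRing Γ(S, U) C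
  have hloc : LocImm.IsLocImmersion (Spec.map β) :=
    isLocImmersion_SpecMap β (isLocHom_of_isLocalization (Algebra.EssFiniteType.submonoid Γ(S, U) Γ(X, V)))
  haveI : LocallyOfFiniteType (Spec.map α) :=
    HasRingHomProperty.Spec_iff.mpr (RingHom.finiteType_algebraMap.mpr inferInstance)
  refine ⟨V, hx, Spec (CommRingCat.of C), hV.isoSpec.hom ≫ Spec.map β, Spec.map α ≫ hU.fromSpec, inferInstance,
    isLocImmersion_openImmersion_comp _ hloc, inferInstance, inferInstance, inferInstance, ?_⟩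
  rw [Category.assoc, ← Spec.map_comp_assoc, hαβ, hU.SpecMap_appLE_fromSpec _ hV, hV.isoSpec_hom_fromSpec_assoc]

theorem exists_factorization {X S : Scheme.{u}} [IsNoetherian X] [IsNoetherian S] (f : X ⟶ S) [IsSeparated f]
    [EssFT.LocallyEssFiniteType f] :
    ∃ (Y : Scheme.{u}) (k : X ⟶ Y) (p : Y ⟶ S), IsNoetherian Y ∧ LocImm.IsLocImmersion k ∧ IsSeparated p ∧
      LocallyOfFiniteType p ∧ QuasiCompact p ∧ k ≫ p = f := by
  classical
  choose V hxV hV using fun x => hasModel_affine f x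
  obtain ⟨t, ht⟩ := isCompact_univ.elim_finite_subcover (fun x => (V x : Set X)) (fun x => (V x).isOpen)
    (fun x _ => Set.mem_iUnion.mpr ⟨x, hxV x⟩)
  have h0 : HasModel f (⊥ : X.Opens) := by
    haveI : IsEmpty (⊥ : X.Opens).toScheme := ⟨fun x => x.2⟩
    exact ⟨S, (⊥ : X.Opens).ι ≫ f, 𝟙 S, inferInstance, ⟨fun x => isEmptyElim x, fun x => isEmptyElim x⟩,
      inferInstance, inferInstance, inferInstance, Category.comp_id _⟩
  have key : ∀ s : Finset X, HasModel f (s.sup V) := by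
    intro s
    induction s using Finset.induction with
    | empty => simpa using h0
    | insert a s _ ih => rw [Finset.sup_insert]; exact hasModel_sup f (hV a) ih
  have htop : t.sup V = ⊤ := eq_top_iff.mpr fun x _ => by
    obtain ⟨y, hy, hxy⟩ := Set.mem_iUnion₂.mp (ht (Set.mem_univ x))
    exact (Finset.le_sup (f := V) hy) hxy
  obtain ⟨Y, k, p, hY, hk, hp₁, hp₂, hp₃, hkp⟩ := htop ▸ key t
  refine ⟨Y, X.topIso.inv ≫ k, p, hY, isLocImmersion_openImmersion_comp _ hk, hp₁, hp₂, hp₃, ?_⟩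
  rw [Category.assoc, hkp, ← Scheme.topIso_hom, Iso.inv_hom_id_assoc]

end Groth.Agent.LocImmersion
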