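import Groth.Agent.LocImmersion.Scheme

/-! Affine neighbourhoods adapted to a localizing immersion; open images. -/

set_option autoImplicit false
set_option backward.isDefEq.respectTransparency false
set_option backward.isDefEq.respectTransparency.types false

universe u
open CategoryTheory Limits AlgebraicGeometry TopologicalSpace

namespace Groth.Agent.LocImmersion

variable {X Y : Scheme.{u}}

theorem isLocHom_app_of_appLE (f : X ⟶ Y) {W : Y.Opens} {V : X.Opens} (e : V ≤ f ⁻¹ᵁ W) (hV : V = f ⁻¹ᵁ W)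
    (h : LocImm.IsLocHom (f.appLE W V e).hom) : LocImm.IsLocHom (f.app W).hom := by
  subst hV
  rwa [Scheme.Hom.appLE_eq_app] at h

theorem exists_nbhd [IsNoetherian X] {f : X ⟶ Y} (hf : LocImm.IsLocImmersion f) (x : X) {O : Y.Opens} (hxO : f x ∈ O) :
    ∃ W : Y.Opens, f x ∈ W ∧ W ≤ O ∧ IsAffineOpen W ∧ IsAffineOpen (f ⁻¹ᵁ W) ∧ LocImm.IsLocHom (f.app W).hom := by
  obtain ⟨⟨U, hU⟩, ⟨V, hV⟩, hxV, e, hloc⟩ := hf.1 x
  simp only at hxV e hloc
  obtain ⟨P, hP, hPV⟩ := (isEmbedding hf).isInducing.isOpen_iff.mp V.isOpen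
  obtain ⟨a, ha, hxa⟩ := hU.exists_basicOpen_le (V := O ⊓ ⟨P, hP⟩) ⟨f x, ⟨hxO, (Set.ext_iff.mp hPV x).mpr hxV⟩⟩ (e hxV)
  obtain ⟨e', he'⟩ := isLocHom_appLE_basicOpen f hU hV e hloc a
  have heq : X.basicOpen (f.appLE U V e a) = f ⁻¹ᵁ Y.basicOpen a := by
    rw [← preimage_basicOpen_inf]
    exact inf_eq_right.mpr fun z hz => (Set.ext_iff.mp hPV z).mp (ha hz).2
  exact ⟨Y.basicOpen a, hxa, ha.trans inf_le_left, hU.basicOpen a, heq ▸ hV.basicOpen _,
    isLocHom_app_of_appLE f e' heq he'⟩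

theorem isLocalizing_of_nbhd {f : X ⟶ Y} (h : ∀ x : X, ∃ V : Y.Opens, f x ∈ V ∧ IsAffineOpen V ∧ IsAffineOpen (f ⁻¹ᵁ V) ∧
    LocImm.IsLocHom (f.app V).hom) : LocImm.IsLocalizing f := by
  intro x
  obtain ⟨V, hx, hV, hV', hloc⟩ := h x
  exact ⟨⟨V, hV⟩, ⟨f ⁻¹ᵁ V, hV'⟩, hx, le_rfl, by rwa [← Scheme.Hom.app_eq_appLE]⟩

theorem eq_of_isLocHom {f : X ⟶ Y} {U : Y.Opens} {V : X.Opens} (hU : IsAffineOpen U) (hV : IsAffineOpen V)
    (e : V ≤ f ⁻¹ᵁ U) (h : LocImm.IsLocHom (f.appLE U V e).hom) {x y : X} (hx : x ∈ V) (hy : y ∈ V)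
    (hxy : f x = f y) : x = y := by
  letI := (f.appLE U V e).hom.toAlgebra
  obtain ⟨S, hS⟩ := h
  have h1 := IsAffineOpen.comap_primeIdealOf_appLE U hU V hV e hx
  have h2 := IsAffineOpen.comap_primeIdealOf_appLE U hU V hV e hy
  have h3 : hU.primeIdealOf ⟨f x, e hx⟩ = hU.primeIdealOf ⟨f y, e hy⟩ := by congr 1; exact Subtype.ext hxy
  have h4 : hV.primeIdealOf ⟨x, hx⟩ = hV.primeIdealOf ⟨y, hy⟩ :=
    PrimeSpectrum.localization_comap_injective Γ(X, V) S (h1.trans (h3.trans h2.symm))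
  simpa [IsAffineOpen.fromSpec_primeIdealOf] using congrArg (fun p => hV.fromSpec p) h4

theorem isOpen_of_isClosed_of_stableUnderGeneralization [IsNoetherian Y] {s : Set Y} (hc : IsClosed s)
    (hs : StableUnderGeneralization s) : IsOpen s := by
  rw [← isClosed_compl_iff]
  have : sᶜ = ⋃₀ {Z ∈ irreducibleComponents Y | Disjoint Z s} := by
    ext y
    constructor
    · intro hy
      refine ⟨irreducibleComponent y, ⟨irreducibleComponent_mem_irreducibleComponents y, ?_⟩, mem_irreducibleComponent⟩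
      rw [Set.disjoint_left]
      intro z hz hzs
      obtain ⟨η, hη⟩ := QuasiSober.sober (isIrreducible_irreducibleComponent (x := y)) (isClosed_irreducibleComponent (x := y))
      exact hy (specializes_iff_forall_closed.mp (hη.specializes (mem_irreducibleComponent (x := y))) s hc
        (hs (hη.specializes hz) hzs))
    · rintro ⟨Z, ⟨-, hd⟩, hyZ⟩ hy
      exact Set.disjoint_left.mp hd hyZ hy
  have hfin : ({Z ∈ irreducibleComponents Y | Disjoint Z s} : Set (Set Y)).Finite :=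
    (NoetherianSpace.finite_irreducibleComponents).subset (Set.sep_subset _ _)
  rw [this, Set.sUnion_eq_biUnion]
  exact hfin.isClosed_biUnion fun Z hZ => isClosed_of_mem_irreducibleComponents Z hZ.1

end Groth.Agent.LocImmersion
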