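import Groth.Agent.LocImmersion.Ring

/-! Localizing morphisms and localizing immersions of schemes: basic properties. -/

set_option autoImplicit false
set_option backward.isDefEq.respectTransparency false
set_option backward.isDefEq.respectTransparency.types false

universe u
open CategoryTheory Limits AlgebraicGeometry TopologicalSpace

namespace Groth.Agent.LocImmersion

variable {X Y : Scheme.{u}}

theorem isLocHom_res_basicOpen {V : X.Opens} (hV : IsAffineOpen V) (g : Γ(X, V)) :
    LocImm.IsLocHom (X.presheaf.map (homOfLE (X.basicOpen_le g)).op).hom := by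
  letI := (X.presheaf.map (homOfLE (X.basicOpen_le g)).op).hom.toAlgebra
  have := hV.isLocalization_basicOpen g
  exact isLocHom_of_isLocalization (Submonoid.powers g)

theorem preimage_basicOpen_inf (f : X ⟶ Y) {U : Y.Opens} {V : X.Opens} (e : V ≤ f ⁻¹ᵁ U) (a : Γ(Y, U)) :
    V ⊓ f ⁻¹ᵁ Y.basicOpen a = X.basicOpen (f.appLE U V e a) := by
  rw [Scheme.Hom.appLE, CommRingCat.comp_apply, Scheme.basicOpen_res, Scheme.preimage_basicOpen]

/-- Shrinking a localizing pair by a section of the target. -/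
theorem isLocHom_appLE_basicOpen (f : X ⟶ Y) {U : Y.Opens} {V : X.Opens} (hU : IsAffineOpen U) (hV : IsAffineOpen V)
    (e : V ≤ f ⁻¹ᵁ U) (h : LocImm.IsLocHom (f.appLE U V e).hom) (a : Γ(Y, U)) :
    ∃ e' : X.basicOpen (f.appLE U V e a) ≤ f ⁻¹ᵁ Y.basicOpen a,
      LocImm.IsLocHom (f.appLE (Y.basicOpen a) (X.basicOpen (f.appLE U V e a)) e').hom := by
  have e' : X.basicOpen (f.appLE U V e a) ≤ f ⁻¹ᵁ Y.basicOpen a := by
    rw [← preimage_basicOpen_inf]; exact inf_le_right
  refine ⟨e', isLocHom_of_comp (isLocHom_res_basicOpen hU a) ?_⟩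
  rw [← CommRingCat.hom_comp, Scheme.Hom.map_appLE,
    ← Scheme.Hom.appLE_map f e (homOfLE (X.basicOpen_le (f.appLE U V e a))).op, CommRingCat.hom_comp]
  exact isLocHom_comp h (isLocHom_res_basicOpen hV _)

theorem stalkMap_bijective {f : X ⟶ Y} (hf : LocImm.IsLocalizing f) (x : X) :
    Function.Bijective (f.stalkMap x) := by
  obtain ⟨⟨U, hU⟩, ⟨V, hV⟩, hxV, e, hloc⟩ := hf x
  simp only at hxV e hloc
  have hyU : f x ∈ U := e hxV
  let φ := (f.appLE U V e).hom
  letI := φ.toAlgebra
  obtain ⟨S, hS⟩ := hloc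
  letI := (Y.presheaf.germ U (f x) hyU).hom.toAlgebra
  letI := (X.presheaf.germ V x hxV).hom.toAlgebra
  letI : Algebra Γ(Y, U) (X.presheaf.stalk x) :=
    ((X.presheaf.germ V x hxV).hom.comp φ).toAlgebra
  haveI : IsScalarTower Γ(Y, U) Γ(X, V) (X.presheaf.stalk x) := IsScalarTower.of_algebraMap_eq fun _ => rfl
  let p := (hU.primeIdealOf ⟨f x, hyU⟩).asIdeal
  let q := (hV.primeIdealOf ⟨x, hxV⟩).asIdeal
  have hY : IsLocalization.AtPrime (Y.presheaf.stalk (f x)) p := hU.isLocalization_stalk ⟨f x, hyU⟩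
  haveI hX : IsLocalization.AtPrime (X.presheaf.stalk x) q := hV.isLocalization_stalk ⟨x, hxV⟩
  have hgerm : ∀ a, f.stalkMap x (Y.presheaf.germ U (f x) hyU a) = X.presheaf.germ V x hxV (φ a) := by
    intro a
    rw [Scheme.Hom.germ_stalkMap_apply]
    exact (X.presheaf.germ_res_apply (homOfLE e) x hxV _).symm
  have hpq : q.comap (algebraMap Γ(Y, U) Γ(X, V)) = p := by
    ext a
    rw [← not_iff_not]
    refine Iff.trans ?_ (IsLocalization.AtPrime.isUnit_to_map_iff (Y.presheaf.stalk (f x)) p a)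
    refine Iff.trans (IsLocalization.AtPrime.isUnit_to_map_iff (X.presheaf.stalk x) q (φ a)).symm ?_
    change IsUnit (X.presheaf.germ V x hxV (φ a)) ↔ IsUnit (Y.presheaf.germ U (f x) hyU a)
    rw [← hgerm]
    exact isUnit_map_iff (f.stalkMap x).hom _
  haveI hX' : IsLocalization.AtPrime (X.presheaf.stalk x) (q.comap (algebraMap Γ(Y, U) Γ(X, V))) :=
    IsLocalization.isLocalization_isLocalization_atPrime_isLocalization S (X.presheaf.stalk x) q
  haveI hX'' : IsLocalization p.primeCompl (X.presheaf.stalk x) := by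
    have : ∀ (p' : Ideal Γ(Y, U)) [p'.IsPrime], p' = p →
        IsLocalization p'.primeCompl (X.presheaf.stalk x) → IsLocalization p.primeCompl (X.presheaf.stalk x) := by
      intro p' _ h; subst h; exact id
    exact this _ hpq hX'
  haveI : IsLocalization p.primeCompl (Y.presheaf.stalk (f x)) := hY
  let α := IsLocalization.algEquiv p.primeCompl (Y.presheaf.stalk (f x)) (X.presheaf.stalk x)
  have hα : (f.stalkMap x).hom = α.toRingEquiv.toRingHom := by
    refine IsLocalization.ringHom_ext p.primeCompl (RingHom.ext fun a => ?_)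
    exact (hgerm a).trans (α.commutes a).symm
  change Function.Bijective (f.stalkMap x).hom
  rw [hα]
  exact α.bijective

theorem isIso_stalkMap {f : X ⟶ Y} (hf : LocImm.IsLocalizing f) (x : X) : IsIso (f.stalkMap x) :=
  (ConcreteCategory.isIso_iff_bijective _).mpr (stalkMap_bijective hf x)

theorem surjectiveOnStalks {f : X ⟶ Y} (hf : LocImm.IsLocalizing f) : SurjectiveOnStalks f :=
  ⟨fun x => (stalkMap_bijective hf x).2⟩

theorem flat {f : X ⟶ Y} (hf : LocImm.IsLocalizing f) : Flat f :=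
  Flat.of_stalkMap _ fun x => RingHom.Flat.of_bijective (stalkMap_bijective hf x)

theorem mono {f : X ⟶ Y} (hf : LocImm.IsLocImmersion f) : Mono f :=
  haveI := surjectiveOnStalks hf.1
  SurjectiveOnStalks.mono_of_injective hf.2

theorem generalizingMap {f : X ⟶ Y} (hf : LocImm.IsLocalizing f) : GeneralizingMap f :=
  haveI := flat hf
  Flat.generalizingMap f

theorem stableUnderGeneralization_range {f : X ⟶ Y} (hf : LocImm.IsLocalizing f) :
    StableUnderGeneralization (Set.range f) :=
  (generalizingMap hf).stableUnderGeneralization_range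

theorem closure_image_subset [IsNoetherian X] {f : X ⟶ Y} (hf : LocImm.IsLocImmersion f) {C : Set X} (hC : IsClosed C)
    {x : X} (hx : f x ∈ closure (f '' C)) : x ∈ C := by
  obtain ⟨S, hSf, hSc, hSi, rfl⟩ := NoetherianSpace.exists_finite_set_isClosed_irreducible hC
  rw [Set.image_sUnion, Set.sUnion_image, hSf.closure_biUnion] at hx
  simp only [Set.mem_iUnion] at hx
  obtain ⟨Z, hZ, hxZ⟩ := hx
  obtain ⟨η, hη⟩ := QuasiSober.sober (hSi Z hZ) (hSc Z hZ)
  have h1 : closure (f '' Z) ⊆ closure {f η} := by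
    refine closure_minimal ?_ isClosed_closure
    rintro _ ⟨z, hz, rfl⟩
    exact specializes_iff_mem_closure.mp ((hη.specializes hz).map f.continuous)
  obtain ⟨η', hη', e⟩ := generalizingMap hf.1 (specializes_iff_mem_closure.mpr (h1 hxZ))
  exact ⟨Z, hZ, (specializes_iff_forall_closed.mp ((hf.2 e) ▸ hη')) Z (hSc Z hZ) hη.mem⟩

theorem isEmbedding [IsNoetherian X] {f : X ⟶ Y} (hf : LocImm.IsLocImmersion f) : Topology.IsEmbedding f := by
  refine ⟨⟨TopologicalSpace.ext_iff.mpr fun V => ⟨fun hV => ?_, fun h => ?_⟩⟩, hf.2⟩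
  · refine isOpen_induced_iff.mpr ⟨(closure (f '' Vᶜ))ᶜ, isClosed_closure.isOpen_compl, Set.ext fun x => ⟨fun h => ?_, fun h h' => ?_⟩⟩
    · by_contra hx
      exact h (subset_closure ⟨x, hx, rfl⟩)
    · exact closure_image_subset hf hV.isClosed_compl h' h
  · obtain ⟨O, hO, rfl⟩ := isOpen_induced_iff.mp h
    exact hO.preimage f.continuous

end Groth.Agent.LocImmersion
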