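import Groth.Agent.LocImmersion.Local

/-! Base change of localizing morphisms. -/

set_option autoImplicit false
set_option backward.isDefEq.respectTransparency false
set_option backward.isDefEq.respectTransparency.types false

universe u
open CategoryTheory Limits AlgebraicGeometry TopologicalSpace

namespace Groth.Agent.LocImmersion

theorem isLocHom_of_isPushout {A B A' B' : CommRingCat.{u}} {φ : A ⟶ B} {ψ : A ⟶ A'} {φ' : B ⟶ B'} {q : A' ⟶ B'}
    (h : IsPushout φ ψ φ' q) (hφ : LocImm.IsLocHom φ.hom) : LocImm.IsLocHom q.hom := by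
  letI := φ.hom.toAlgebra
  obtain ⟨S, hS⟩ := hφ
  letI := ψ.hom.toAlgebra
  letI := φ'.hom.toAlgebra
  letI := q.hom.toAlgebra
  letI := (φ ≫ φ').hom.toAlgebra
  haveI : IsScalarTower A B B' := .of_algebraMap_eq fun _ => rfl
  haveI : IsScalarTower A A' B' := .of_algebraMap_eq' (congrArg CommRingCat.Hom.hom h.w)
  have hp : Algebra.IsPushout A A' B B' := CommRingCat.isPushout_iff_isPushout.mp h.flip
  haveI := (Algebra.isLocalization_iff_isPushout S (B := B') (T := A') B).mpr hp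
  exact isLocHom_of_isLocalization (B := B') (Algebra.algebraMapSubmonoid A' S)

theorem isLocalizing_of_isPullback {X Y T P : Scheme.{u}} {f : X ⟶ Y} {g : T ⟶ Y} {p : P ⟶ X} {q : P ⟶ T}
    (H : IsPullback p q f g) (hf : LocImm.IsLocalizing f) : LocImm.IsLocalizing q := by
  intro z
  obtain ⟨⟨U, hU⟩, ⟨V, hV⟩, hxV, e, hloc⟩ := hf (p z)
  simp only at hxV e hloc
  have hz : g (q z) ∈ U := by
    rw [← Scheme.Hom.comp_apply, ← H.w, Scheme.Hom.comp_apply]
    exact e hxV
  obtain ⟨U', hU', hzU', hle⟩ := exists_isAffineOpen_mem_and_subset (U := g ⁻¹ᵁ U) (x := q z) hz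
  haveI : IsAffine _ := hU
  haveI : IsAffine _ := hU'
  haveI : IsAffine _ := hV
  have hV' : IsAffineOpen (p ⁻¹ᵁ V ⊓ q ⁻¹ᵁ U') :=
    .of_isIso (Scheme.Hom.isPullback_resLE H hle e rfl).isoPullback.hom
  have hp := (isIso_pushoutSection_iff H hle e rfl).mp (isIso_pushoutSection_of_isAffineOpen H hle e rfl hU hU' hV)
  exact ⟨⟨U', hU'⟩, ⟨_, hV'⟩, ⟨hxV, hzU'⟩, inf_le_right, isLocHom_of_isPushout hp hloc⟩

end Groth.Agent.LocImmersion
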