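import Groth.Agent.LocImmersion.Factor

/-! Extending properties from finite-type morphisms to morphisms essentially of finite type. -/

set_option autoImplicit false
set_option backward.isDefEq.respectTransparency false
set_option backward.isDefEq.respectTransparency.types false

universe u
open CategoryTheory Limits AlgebraicGeometry TopologicalSpace IsLocalRing

namespace Groth.Agent.LocImmersion

variable {X Y Z : Scheme.{u}}

theorem isLocImmersion_id (X : Scheme.{u}) : LocImm.IsLocImmersion (𝟙 X) := by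
  refine ⟨fun x => ?_, fun a b h => h⟩
  obtain ⟨V, hV, hxV, -⟩ := exists_isAffineOpen_mem_and_subset (U := (⊤ : X.Opens)) (x := x) trivial
  refine ⟨⟨V, hV⟩, ⟨V, hV⟩, hxV, le_rfl, ?_⟩
  change LocImm.IsLocHom ((𝟙 X : X ⟶ X).appLE V ((𝟙 X : X ⟶ X) ⁻¹ᵁ V) le_rfl).hom
  rw [Scheme.Hom.appLE_eq_app, Scheme.Hom.id_app]
  exact isLocHom_of_bijective _ Function.bijective_id

theorem isLocImmersion_of_isOpenImmersion (j : X ⟶ Y) [IsOpenImmersion j] : LocImm.IsLocImmersion j := by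
  rw [← Category.comp_id j]
  exact isLocImmersion_openImmersion_comp j (isLocImmersion_id Y)

theorem isLocImmersion_fromSpecStalk (x : X) : LocImm.IsLocImmersion (X.fromSpecStalk x) := by
  obtain ⟨V, hV, hxV, -⟩ := exists_isAffineOpen_mem_and_subset (U := (⊤ : X.Opens)) (x := x) trivial
  rw [← hV.fromSpecStalk_eq_fromSpecStalk hxV]
  refine isLocImmersion_comp_openImmersion _ (isLocImmersion_SpecMap _ ?_)
  letI := (X.presheaf.germ V x hxV).hom.toAlgebra
  have := hV.isLocalization_stalk ⟨x, hxV⟩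
  exact isLocHom_of_isLocalization (hV.primeIdealOf ⟨x, hxV⟩).asIdeal.primeCompl

theorem locallyEssFiniteType_comp {k : X ⟶ Y} (hk : LocImm.IsLocalizing k) (h : Y ⟶ Z) [LocallyOfFiniteType h] :
    EssFT.LocallyEssFiniteType (k ≫ h) := by
  constructor
  intro x
  obtain ⟨⟨U, hU⟩, ⟨V, hV⟩, hxV, e, hl⟩ := hk x
  simp only at hxV e hl
  obtain ⟨T, hT, hxT, -⟩ := exists_isAffineOpen_mem_and_subset (U := (⊤ : Z.Opens)) (x := h (k x)) trivial
  obtain ⟨a, ha, hxa⟩ := hU.exists_basicOpen_le (V := h ⁻¹ᵁ T) ⟨k x, hxT⟩ (e hxV)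
  obtain ⟨e', hl'⟩ := isLocHom_appLE_basicOpen _ hU hV e hl a
  refine ⟨⟨T, hT⟩, ⟨_, hV.basicOpen (k.appLE U V e a)⟩, ?_, e'.trans (k.preimage_mono ha), ?_⟩
  · change x ∈ X.basicOpen (k.appLE U V e a)
    rw [← preimage_basicOpen_inf]
    exact ⟨hxV, hxa⟩
  rw [← Scheme.Hom.appLE_comp_appLE k h T (Y.basicOpen a) _ ha e', CommRingCat.hom_comp]
  refine RingHom.EssFiniteType.stableUnderComposition _ _ ?_ ?_
  · letI := (h.appLE T (Y.basicOpen a) ha).hom.toAlgebra
    haveI : Algebra.FiniteType Γ(Z, T) Γ(Y, Y.basicOpen a) := h.finiteType_appLE hT (hU.basicOpen a) ha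
    exact Algebra.EssFiniteType.of_finiteType Γ(Z, T) Γ(Y, Y.basicOpen a)
  · letI := (k.appLE (Y.basicOpen a) (X.basicOpen (k.appLE U V e a)) e').hom.toAlgebra
    obtain ⟨S, hS⟩ := hl'
    exact Algebra.EssFiniteType.of_isLocalization _ S

theorem essFiniteType_comp [IsNoetherian X] {k : X ⟶ Y} (hk : LocImm.IsLocalizing k) (h : Y ⟶ Z) [LocallyOfFiniteType h] :
    EssFT.EssFiniteType (k ≫ h) :=
  haveI := locallyEssFiniteType_comp hk h
  {}

variable (P : MorphismProperty Scheme.{u})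
    (hα : ∀ {W X Y : Scheme.{u}} [IsNoetherian W] [IsNoetherian X] [IsNoetherian Y] (i : W ⟶ X) (f : X ⟶ Y) [IsSeparated f] [EssFT.EssFiniteType f], LocImm.IsLocImmersion i → P f → P (i ≫ f))

include hα in
theorem stalk_transfer [IsNoetherian X] [IsNoetherian Y] [IsNoetherian Z] {k : X ⟶ Y} (hk : LocImm.IsLocImmersion k)
    (h : Y ⟶ Z) [IsSeparated h] [LocallyOfFiniteType h] (x : X) :
    P (X.fromSpecStalk x ≫ k ≫ h) ↔ P (Y.fromSpecStalk (k x) ≫ h) := by
  haveI := isIso_stalkMap hk.1 x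
  have e : X.fromSpecStalk x ≫ k = Spec.map (k.stalkMap x) ≫ Y.fromSpecStalk (k x) :=
    (Scheme.SpecMap_stalkMap_fromSpecStalk k).symm
  have l₁ : LocImm.IsLocImmersion (Y.fromSpecStalk (k x)) := isLocImmersion_fromSpecStalk _
  have l₂ : LocImm.IsLocImmersion (X.fromSpecStalk x ≫ k) := by
    rw [e]; exact isLocImmersion_openImmersion_comp _ l₁
  haveI := essFiniteType_comp l₁.1 h
  haveI := essFiniteType_comp l₂.1 h
  haveI : IsPreimmersion (X.fromSpecStalk x ≫ k) := by rw [e]; infer_instance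
  constructor
  · intro hP
    rw [← Category.assoc] at hP
    have := hα (Spec.map (inv (k.stalkMap x))) ((X.fromSpecStalk x ≫ k) ≫ h) (isLocImmersion_of_isOpenImmersion _) hP
    rwa [e, Category.assoc, ← Spec.map_comp_assoc, IsIso.hom_inv_id, Spec.map_id, Category.id_comp] at this
  · intro hP
    have := hα (Spec.map (k.stalkMap x)) (Y.fromSpecStalk (k x) ≫ h) (isLocImmersion_of_isOpenImmersion _) hP
    rwa [← reassoc_of% e] at this

variable
    (hβ₁ : ∀ {X Y : Scheme.{u}} [IsNoetherian X] [IsNoetherian Y] (f : X ⟶ Y) [IsSeparated f] [LocallyOfFiniteType f], (∀ x : X, P (X.fromSpecStalk x ≫ f)) → P f)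
    (hβ₂ : ∀ {X Y : Scheme.{u}} [IsNoetherian X] [IsNoetherian Y] (f : X ⟶ Y) [IsSeparated f] [LocallyOfFiniteType f], IsOpen {x : X | P (X.fromSpecStalk x ≫ f)})

include hα hβ₁ hβ₂ in
theorem extend_property [IsNoetherian X] [IsNoetherian Y] (f : X ⟶ Y) [IsSeparated f] [EssFT.EssFiniteType f] :
    ((∀ x : X, P (X.fromSpecStalk x ≫ f)) → P f) ∧ IsOpen {x : X | P (X.fromSpecStalk x ≫ f)} ∧
      (P f → ∃ (Z : Scheme.{u}) (i : X ⟶ Z) (h : Z ⟶ Y), IsNoetherian Z ∧ LocImm.IsLocImmersion i ∧ IsSeparated h ∧ LocallyOfFiniteType h ∧ QuasiCompact h ∧ P h ∧ i ≫ h = f) := by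
  obtain ⟨Z, k, h, _, hk, _, _, _, rfl⟩ := exists_factorization f
  let O : Z.Opens := ⟨{z | P (Z.fromSpecStalk z ≫ h)}, hβ₂ h⟩
  haveI := isNoetherian_opens O
  have hP : P (O.ι ≫ h) := hβ₁ _ fun z => (stalk_transfer P hα (isLocImmersion_of_isOpenImmersion O.ι) h z).mpr z.2
  haveI : EssFT.EssFiniteType (O.ι ≫ h) := {}
  have main : (∀ x : X, P (X.fromSpecStalk x ≫ k ≫ h)) →
      ∃ (Z : Scheme.{u}) (i : X ⟶ Z) (h' : Z ⟶ Y), IsNoetherian Z ∧ LocImm.IsLocImmersion i ∧ IsSeparated h' ∧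
        LocallyOfFiniteType h' ∧ QuasiCompact h' ∧ P h' ∧ i ≫ h' = k ≫ h ∧ P (i ≫ h') := by
    intro hx
    let k' := IsOpenImmersion.lift O.ι k (by
      rintro _ ⟨x, rfl⟩
      rw [Scheme.Opens.range_ι]
      exact (stalk_transfer P hα hk h x).mp (hx x))
    have hk' : LocImm.IsLocImmersion k' := isLocImmersion_of_comp_openImmersion O.ι (by rw [IsOpenImmersion.lift_fac]; exact hk)
    exact ⟨O, k', O.ι ≫ h, inferInstance, hk', inferInstance, inferInstance, inferInstance, hP,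
      by simp [k', IsOpenImmersion.lift_fac_assoc], hα k' _ hk' hP⟩
  refine ⟨fun hx => ?_, ?_, fun hf => ?_⟩
  · obtain ⟨Z', i, h', -, -, -, -, -, -, e, hi⟩ := main hx
    rwa [e] at hi
  · have : {x : X | P (X.fromSpecStalk x ≫ k ≫ h)} = k ⁻¹' O := Set.ext fun x => stalk_transfer P hα hk h x
    rw [this]
    exact O.isOpen.preimage k.continuous
  · obtain ⟨Z', i, h', a1, a2, a3, a4, a5, a6, e, -⟩ := main fun x => hα _ _ (isLocImmersion_fromSpecStalk x) hf
    exact ⟨Z', i, h', a1, a2, a3, a4, a5, a6, e⟩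

end Groth.Agent.LocImmersion
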