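import Groth.Agent.LocImmersion.Local

/-! A separated localizing morphism injective on maximal points is injective. -/

set_option autoImplicit false
set_option backward.isDefEq.respectTransparency false
set_option backward.isDefEq.respectTransparency.types false

universe u
open CategoryTheory Limits AlgebraicGeometry TopologicalSpace IsLocalRing

namespace Groth.Agent.LocImmersion

variable {X Y : Scheme.{u}}

theorem exists_lift {f : X ⟶ Y} (hf : LocImm.IsLocalizing f) {x : X} {y : Y} (h : f x = y) :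
    ∃ s : Spec (Y.presheaf.stalk y) ⟶ X, IsPreimmersion s ∧ s ≫ f = Y.fromSpecStalk y ∧
      s (closedPoint _) = x ∧ StableUnderGeneralization (Set.range s) := by
  subst h
  have := isIso_stalkMap hf x
  refine ⟨Spec.map (inv (f.stalkMap x)) ≫ X.fromSpecStalk x, inferInstance, ?_, ?_, ?_⟩
  · rw [Category.assoc, ← Scheme.SpecMap_stalkMap_fromSpecStalk, ← Spec.map_comp_assoc,
      IsIso.hom_inv_id, Spec.map_id, Category.id_comp]
  · rw [Scheme.Hom.comp_apply]
    erw [Spec_closedPoint]
    exact Scheme.fromSpecStalk_closedPoint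
  · have : Set.range (Spec.map (inv (f.stalkMap x)) ≫ X.fromSpecStalk x) = Set.range (X.fromSpecStalk x) := by
      rw [Scheme.Hom.comp_base, TopCat.coe_comp, Set.range_comp,
        (Spec.map (inv (f.stalkMap x))).surjective.range_eq, Set.image_univ]
    rw [this, Scheme.range_fromSpecStalk]
    exact fun a b hba ha => hba.trans ha

theorem exists_open_mono {f : X ⟶ Y} (hf : LocImm.IsLocalizing f) (x : X) :
    ∃ V : X.Opens, x ∈ V ∧ Mono (V.ι ≫ f) := by
  obtain ⟨⟨U, hU⟩, ⟨V, hV⟩, hxV, e, hloc⟩ := hf x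
  simp only at hxV e hloc
  have := surjectiveOnStalks hf
  exact ⟨V, hxV, SurjectiveOnStalks.mono_of_injective fun a b h =>
    Subtype.ext (eq_of_isLocHom hU hV e hloc a.2 b.2 h)⟩

theorem exists_maximal {T : Scheme.{u}} (t : T) : ∃ η : T, η ⤳ t ∧ ∀ η', η' ⤳ η → η' = η := by
  obtain ⟨η, hη⟩ := QuasiSober.sober (isIrreducible_irreducibleComponent (x := t)) (isClosed_irreducibleComponent (x := t))
  refine ⟨η, hη.specializes mem_irreducibleComponent, fun η' h => ?_⟩
  have h1 : irreducibleComponent t ⊆ closure {η'} := by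
    rw [← hη.def]; exact specializes_iff_closure_subset.mp h
  have h2 : closure {η'} = irreducibleComponent t :=
    ((irreducibleComponent_mem_irreducibleComponents t).eq_of_subset (isIrreducible_singleton.closure) h1).symm
  exact IsGenericPoint.eq (h2 : IsGenericPoint η' _) hη

theorem injective_of_injOn {f : X ⟶ Y} (hf : LocImm.IsLocalizing f) [IsSeparated f]
    (h : Set.InjOn (fun x => f x) {x : X | ∀ x' : X, x' ⤳ x → x' = x}) : Function.Injective f := by
  intro x₁ x₂ hx
  obtain ⟨s, hs, hsf, hsx, hsr⟩ := exists_lift hf (rfl : f x₁ = f x₁)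
  obtain ⟨t, ht, htf, htx, htr⟩ := exists_lift hf hx.symm
  let φ := pullback.lift s t (hsf.trans htf.symm)
  let E := pullback.snd (pullback.diagonal f) φ
  have key : pullback.fst (pullback.diagonal f) φ = E ≫ s ∧ pullback.fst (pullback.diagonal f) φ = E ≫ t := by
    have w := pullback.condition (f := pullback.diagonal f) (g := φ)
    exact ⟨by simpa [φ, E] using congrArg (· ≫ pullback.fst f f) w, by simpa [φ, E] using congrArg (· ≫ pullback.snd f f) w⟩
  have hc : IsClosed (Set.range E) := E.isClosedEmbedding.isClosed_range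
  have hmax : ∀ η, (∀ η', η' ⤳ η → η' = η) → η ∈ Set.range E := by
    intro η hη
    have m : ∀ (r : Spec (Y.presheaf.stalk (f x₁)) ⟶ X), IsPreimmersion r → StableUnderGeneralization (Set.range r) →
        ∀ z, z ⤳ r η → z = r η := by
      intro r hr hg z hz
      obtain ⟨η', rfl⟩ := hg hz ⟨η, rfl⟩
      rw [hη η' (r.isEmbedding.isInducing.specializes_iff.mp hz)]
    have hp : s η = t η := h (m s hs hsr) (m t ht htr) (by
      change f (s η) = f (t η)
      rw [← Scheme.Hom.comp_apply, hsf, ← htf, Scheme.Hom.comp_apply])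
    obtain ⟨V, hV, hVm⟩ := exists_open_mono hf (s η)
    let i := (Spec (Y.presheaf.stalk (f x₁))).fromSpecResidueField η
    have hr : ∀ (r : Spec (Y.presheaf.stalk (f x₁)) ⟶ X), r η ∈ V → Set.range (i ≫ r) ⊆ Set.range V.ι := by
      rintro r hr _ ⟨a, rfl⟩
      rw [Scheme.Hom.comp_apply, Scheme.fromSpecResidueField_apply, Scheme.Opens.range_ι]
      exact hr
    let a := IsOpenImmersion.lift V.ι (i ≫ s) (hr s hV)
    let b := IsOpenImmersion.lift V.ι (i ≫ t) (hr t (hp ▸ hV))
    have hab : a = b := by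
      rw [← cancel_mono (V.ι ≫ f)]
      simp [a, b, IsOpenImmersion.lift_fac_assoc, hsf, htf]
    have hst : i ≫ s = i ≫ t := by
      rw [← IsOpenImmersion.lift_fac V.ι (i ≫ s) (hr s hV), ← IsOpenImmersion.lift_fac V.ι (i ≫ t) (hr t (hp ▸ hV))]
      exact congrArg (· ≫ V.ι) hab
    let l : Spec ((Spec (Y.presheaf.stalk (f x₁))).residueField η) ⟶ pullback (pullback.diagonal f) φ :=
      pullback.lift (i ≫ s) i (by apply pullback.hom_ext <;> simp [φ, hst])
    refine ⟨l (closedPoint _), ?_⟩
    rw [← Scheme.Hom.comp_apply, pullback.lift_snd, Scheme.fromSpecResidueField_apply]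
  obtain ⟨η, hη, hη'⟩ := exists_maximal (T := Spec (Y.presheaf.stalk (f x₁))) (closedPoint _)
  obtain ⟨z, hz⟩ := specializes_iff_forall_closed.mp hη _ hc (hmax η hη')
  rw [← hsx, ← htx, ← hz, ← Scheme.Hom.comp_apply, ← Scheme.Hom.comp_apply, ← key.1, ← key.2]

end Groth.Agent.LocImmersion
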