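import Groth.Agent.LocImmersion.SpecLoc
import Groth.Agent.LocImmersion.Injective
import Groth.Agent.LocImm.Basic
import Groth.Prelude.Def_EssFT

/-! The locus where a morphism is localizing; a morphism essentially of finite type is localizing near
every point where its stalk map is an isomorphism. -/

set_option autoImplicit false
set_option backward.isDefEq.respectTransparency false
set_option backward.isDefEq.respectTransparency.types false

universe u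
open CategoryTheory Limits AlgebraicGeometry TopologicalSpace IsLocalRing

namespace Groth.Agent.LocImmersion

variable {X Y Z : Scheme.{u}}

/-- `f` is localizing on some affine neighbourhood of `x`. -/
def LocAt (f : X ⟶ Y) (x : X) : Prop :=
  ∃ (U : Y.affineOpens) (V : X.affineOpens) (_ : x ∈ V.1) (e : V.1 ≤ f ⁻¹ᵁ U.1), LocImm.IsLocHom (f.appLE U V e).hom

def locOpen (f : X ⟶ Y) : X.Opens :=
  ⟨{x | LocAt f x}, isOpen_iff_forall_mem_open.mpr fun x ⟨U, V, hx, e, h⟩ =>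
    ⟨V.1, fun _ hy => ⟨U, V, hy, e, h⟩, V.1.isOpen, hx⟩⟩

theorem exists_shrink {f : X ⟶ Y} {x : X} (h : LocAt f x) {O : X.Opens} (hx : x ∈ O) :
    ∃ (U : Y.affineOpens) (V : X.affineOpens) (_ : x ∈ V.1) (e : V.1 ≤ f ⁻¹ᵁ U.1),
      V.1 ≤ O ∧ LocImm.IsLocHom (f.appLE U V e).hom := by
  obtain ⟨U, ⟨V, hV⟩, hxV, e, h⟩ := h
  obtain ⟨b, hb, hxb⟩ := hV.exists_basicOpen_le (V := O) ⟨x, hx⟩ hxV
  refine ⟨U, ⟨X.basicOpen b, hV.basicOpen b⟩, hxb, (X.basicOpen_le b).trans e, hb, ?_⟩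
  rw [← Scheme.Hom.appLE_map f e (homOfLE (X.basicOpen_le b)).op, CommRingCat.hom_comp]
  exact isLocHom_comp h (isLocHom_res_basicOpen hV b)

theorem bijective_appLE_of_le_opensRange (ι : X ⟶ Y) [IsOpenImmersion ι] {V : Y.Opens} (hV : V ≤ ι.opensRange) :
    Function.Bijective (ι.appLE V (ι ⁻¹ᵁ V) le_rfl).hom := by
  rw [Scheme.Hom.appLE_eq_app]
  have := ι.isIso_app V hV
  exact ConcreteCategory.bijective_of_isIso _

theorem locAt_comp_of_isOpenImmersion (ι : X ⟶ Y) [IsOpenImmersion ι] {g : Y ⟶ Z} {x : X} (h : LocAt g (ι x)) :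
    LocAt (ι ≫ g) x := by
  obtain ⟨U, ⟨V, hV⟩, hxV, e, hVO, hloc⟩ := exists_shrink h (O := ι.opensRange) ⟨x, rfl⟩
  refine ⟨U, ⟨ι ⁻¹ᵁ V, hV.preimage_of_isOpenImmersion ι hVO⟩, hxV, (ι.preimage_mono e : _), ?_⟩
  rw [← Scheme.Hom.appLE_comp_appLE ι g U.1 V (ι ⁻¹ᵁ V) e le_rfl, CommRingCat.hom_comp]
  exact isLocHom_comp hloc (isLocHom_of_bijective _ (bijective_appLE_of_le_opensRange ι hVO))

theorem locAt_of_comp_isOpenImmersion (ι : X ⟶ Y) [IsOpenImmersion ι] {g : Y ⟶ Z} {x : X} (h : LocAt (ι ≫ g) x) :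
    LocAt g (ι x) := by
  obtain ⟨U, ⟨V, hV⟩, hxV, e, hloc⟩ := h
  have e' : ι ''ᵁ V ≤ g ⁻¹ᵁ U.1 := by
    rintro _ ⟨v, hv, rfl⟩
    exact e hv
  refine ⟨U, ⟨ι ''ᵁ V, hV.image_of_isOpenImmersion ι⟩, ⟨x, hxV, rfl⟩, e', ?_⟩
  have e'' : V ≤ ι ⁻¹ᵁ (ι ''ᵁ V) := le_of_eq (ι.preimage_image_eq V).symm
  rw [← Scheme.Hom.appLE_comp_appLE ι g U.1 (ι ''ᵁ V) V e' e'', CommRingCat.hom_comp] at hloc
  have hb : Function.Bijective (ι.appLE (ι ''ᵁ V) V e'').hom := by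
    rw [← Scheme.Hom.appIso_hom']
    exact (ι.appIso V).commRingCatIsoToRingEquiv.bijective
  let σ := RingEquiv.ofBijective _ hb
  have h2 := isLocHom_comp hloc (isLocHom_of_bijective σ.symm.toRingHom σ.symm.bijective)
  convert h2 using 1
  ext a
  exact (σ.symm_apply_apply _).symm

theorem locAt_comp_isOpenImmersion_right {g : X ⟶ Y} (j : Y ⟶ Z) [IsOpenImmersion j] {x : X} (h : LocAt g x) :
    LocAt (g ≫ j) x := by
  obtain ⟨⟨U, hU⟩, V, hxV, e, hloc⟩ := h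
  have e₁ : U ≤ j ⁻¹ᵁ (j ''ᵁ U) := le_of_eq (j.preimage_image_eq U).symm
  refine ⟨⟨j ''ᵁ U, hU.image_of_isOpenImmersion j⟩, V, hxV, e.trans (g.preimage_mono e₁), ?_⟩
  rw [← Scheme.Hom.appLE_comp_appLE g j (j ''ᵁ U) U V.1 e₁ e, CommRingCat.hom_comp]
  refine isLocHom_comp (isLocHom_of_bijective _ ?_) hloc
  rw [← Scheme.Hom.appIso_hom']
  exact (j.appIso U).commRingCatIsoToRingEquiv.bijective

theorem isLocalizing_of_locAt {f : X ⟶ Y} (h : ∀ x, LocAt f x) : LocImm.IsLocalizing f := h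

theorem isIso_stalkMap_of_locAt {f : X ⟶ Y} {x : X} (h : LocAt f x) : IsIso (f.stalkMap x) := by
  let O := locOpen f
  have hl : LocImm.IsLocalizing (O.ι ≫ f) := fun w => locAt_comp_of_isOpenImmersion O.ι w.2
  have h1 := isIso_stalkMap hl ⟨x, h⟩
  rw [Scheme.Hom.stalkMap_comp] at h1
  exact @IsIso.of_isIso_comp_right _ _ _ _ _ (f.stalkMap x) (O.ι.stalkMap ⟨x, h⟩) inferInstance h1

theorem locAt_of_isIso_stalkMap [IsLocallyNoetherian Y] (g : X ⟶ Y) [EssFT.LocallyEssFiniteType g] (x : X)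
    [hx' : IsIso (g.stalkMap x)] : LocAt g x := by
  obtain ⟨⟨U, hU⟩, ⟨V, hV⟩, hx, e, hess⟩ := EssFT.LocallyEssFiniteType.exists_appLE_essFiniteType (f := g) x
  simp only at hx e hess
  letI : Algebra Γ(Y, U) Γ(X, V) := (g.appLE U V e).hom.toAlgebra
  haveI : Algebra.EssFiniteType Γ(Y, U) Γ(X, V) := hess
  let C := Algebra.EssFiniteType.subalgebra Γ(Y, U) Γ(X, V)
  let α : CommRingCat.of Γ(Y, U) ⟶ CommRingCat.of C := CommRingCat.ofHom (algebraMap Γ(Y, U) C)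
  let β : CommRingCat.of C ⟶ Γ(X, V) := CommRingCat.ofHom (algebraMap C Γ(X, V))
  have hαβ : α ≫ β = g.appLE U V e := CommRingCat.hom_ext (IsScalarTower.algebraMap_eq Γ(Y, U) C Γ(X, V)).symm
  have hβ : LocImm.IsLocImmersion (Spec.map β) :=
    isLocImmersion_SpecMap β (isLocHom_of_isLocalization (Algebra.EssFiniteType.submonoid Γ(Y, U) Γ(X, V)))
  haveI : LocallyOfFiniteType (Spec.map α) :=
    HasRingHomProperty.Spec_iff.mpr (RingHom.finiteType_algebraMap.mpr inferInstance)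
  let h : Spec (CommRingCat.of C) ⟶ Y := Spec.map α ≫ hU.fromSpec
  have w : Spec.map β ≫ h = hV.fromSpec ≫ g := by
    rw [← Spec.map_comp_assoc, hαβ, hU.SpecMap_appLE_fromSpec _ hV]
  obtain ⟨x', rfl⟩ : x ∈ Set.range hV.fromSpec := by rw [hV.range_fromSpec]; exact hx
  have hiso : IsIso (h.stalkMap (Spec.map β x')) := by
    haveI := isIso_stalkMap hβ.1 x'
    have h1 : IsIso ((Spec.map β ≫ h).stalkMap x') := by
      rw [w, Scheme.Hom.stalkMap_comp]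
      infer_instance
    rw [Scheme.Hom.stalkMap_comp] at h1
    exact @IsIso.of_isIso_comp_right _ _ _ _ _ (h.stalkMap (Spec.map β x')) ((Spec.map β).stalkMap x') inferInstance h1
  obtain ⟨Z₀, hc, hZ₀⟩ := Groth.Agent.LocImm.isLocalIsoAt_of_isIso_stalkMap h (Spec.map β x')
  apply locAt_of_comp_isOpenImmersion
  rw [← w]
  let W := Spec.map β ⁻¹ᵁ Z₀
  have hWl : LocImm.IsLocalizing (W.ι ≫ Spec.map β) := fun z => locAt_comp_of_isOpenImmersion W.ι (hβ.1 _)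
  have h2 : LocAt (Spec.map β ∣_ Z₀) ⟨x', hc⟩ := by
    obtain ⟨⟨U₁, hU₁⟩, V₁, hz, e₁, hVW, hl⟩ := exists_shrink (hWl ⟨x', hc⟩) (O := ⊤) trivial
    simp only at e₁ hl
    obtain ⟨a, ha, hxa⟩ := hU₁.exists_basicOpen_le (V := Z₀) ⟨Spec.map β x', hc⟩ (e₁ hz)
    obtain ⟨e₂, hl₂⟩ := isLocHom_appLE_basicOpen _ hU₁ V₁.2 e₁ hl a
    let k := Spec.map β ∣_ Z₀
    have hk : k ≫ Z₀.ι = W.ι ≫ Spec.map β := morphismRestrict_ι _ _
    have ha' : (Spec (CommRingCat.of C)).basicOpen a ≤ Z₀.ι.opensRange := by rwa [Scheme.Opens.opensRange_ι]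
    have e₃ : W.toScheme.basicOpen ((W.ι ≫ Spec.map β).appLE U₁ V₁ e₁ a) ≤ k ⁻¹ᵁ (Z₀.ι ⁻¹ᵁ (Spec (CommRingCat.of C)).basicOpen a) := by
      rw [← Scheme.Hom.comp_preimage, hk]
      exact e₂
    refine ⟨⟨_, (hU₁.basicOpen a).preimage_of_isOpenImmersion Z₀.ι ha'⟩, ⟨_, V₁.2.basicOpen _⟩, ?_, e₃, ?_⟩
    · change (⟨x', hc⟩ : W.toScheme) ∈ W.toScheme.basicOpen ((W.ι ≫ Spec.map β).appLE U₁ V₁ e₁ a)
      rw [← preimage_basicOpen_inf]
      exact ⟨hz, hxa⟩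
    · have e₄ : W.toScheme.basicOpen ((W.ι ≫ Spec.map β).appLE U₁ V₁ e₁ a) ≤
          (k ≫ Z₀.ι) ⁻¹ᵁ (Spec (CommRingCat.of C)).basicOpen a := e₃
      have h3 : LocImm.IsLocHom ((k ≫ Z₀.ι).appLE _ _ e₄).hom := by
        simp only [hk]
        exact hl₂
      rw [← Scheme.Hom.appLE_comp_appLE k Z₀.ι _ _ _ le_rfl e₃, CommRingCat.hom_comp] at h3
      exact isLocHom_of_comp (isLocHom_of_bijective _ (bijective_appLE_of_le_opensRange Z₀.ι ha')) h3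
  have h4 := locAt_comp_isOpenImmersion_right (Z₀.ι ≫ h) h2
  rw [← Category.assoc, morphismRestrict_ι, Category.assoc] at h4
  exact locAt_of_comp_isOpenImmersion W.ι h4

end Groth.Agent.LocImmersion
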