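import Groth.Agent.LocImmersion.Shrink
import Groth.Agent.LocImmersion.TwoGlue
import Groth.Agent.S18195
import Groth.Agent.S18204

/-! Two models of a localizing immersion share an open; gluing two models. -/

set_option autoImplicit false
set_option backward.isDefEq.respectTransparency false
set_option backward.isDefEq.respectTransparency.types false

universe u
open CategoryTheory Limits AlgebraicGeometry TopologicalSpace

namespace Groth.Agent.LocImmersion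

variable {X Y Z : Scheme.{u}}

theorem locAt_of_comp_isOpenImmersion_right {g : X ⟶ Y} (j : Y ⟶ Z) [IsOpenImmersion j] {x : X}
    (h : LocAt (g ≫ j) x) : LocAt g x := by
  obtain ⟨⟨U, hU⟩, ⟨V, hV⟩, hxV, e, hl⟩ := h
  simp only at hxV e hl
  obtain ⟨a, ha, hxa⟩ := hU.exists_basicOpen_le (V := j.opensRange) ⟨j (g x), ⟨g x, rfl⟩⟩ (e hxV)
  obtain ⟨e', hl'⟩ := isLocHom_appLE_basicOpen _ hU hV e hl a
  have e₃ : X.basicOpen ((g ≫ j).appLE U V e a) ≤ g ⁻¹ᵁ (j ⁻¹ᵁ Z.basicOpen a) := e'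
  refine ⟨⟨_, (hU.basicOpen a).preimage_of_isOpenImmersion j ha⟩, ⟨_, hV.basicOpen _⟩, ?_, e₃, ?_⟩
  · change x ∈ X.basicOpen ((g ≫ j).appLE U V e a)
    rw [← preimage_basicOpen_inf]
    exact ⟨hxV, hxa⟩
  · rw [← Scheme.Hom.appLE_comp_appLE g j (Z.basicOpen a) _ _ le_rfl e₃, CommRingCat.hom_comp] at hl'
    exact isLocHom_of_comp (isLocHom_of_bijective _ (bijective_appLE_of_le_opensRange j ha)) hl'

theorem isLocImmersion_openImmersion_comp (ι : X ⟶ Y) [IsOpenImmersion ι] {k : Y ⟶ Z}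
    (hk : LocImm.IsLocImmersion k) : LocImm.IsLocImmersion (ι ≫ k) :=
  ⟨fun x => locAt_comp_of_isOpenImmersion ι (hk.1 (ι x)), fun a b h => ι.isOpenEmbedding.injective (hk.2 h)⟩

theorem isLocImmersion_of_comp_openImmersion {k : X ⟶ Y} (j : Y ⟶ Z) [IsOpenImmersion j]
    (hk : LocImm.IsLocImmersion (k ≫ j)) : LocImm.IsLocImmersion k :=
  ⟨fun x => locAt_of_comp_isOpenImmersion_right j (hk.1 x),
    fun a b h => hk.2 (show j (k a) = j (k b) from congrArg j h)⟩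

theorem isLocImmersion_comp_openImmersion {k : X ⟶ Y} (j : Y ⟶ Z) [IsOpenImmersion j]
    (hk : LocImm.IsLocImmersion k) : LocImm.IsLocImmersion (k ≫ j) :=
  ⟨fun x => locAt_comp_isOpenImmersion_right j (hk.1 x), fun a b h => hk.2 (j.isOpenEmbedding.injective h)⟩

instance locallyEssFiniteType_of_locallyOfFiniteType (f : X ⟶ Y) [LocallyOfFiniteType f] :
    EssFT.LocallyEssFiniteType f := by
  constructor
  intro x
  obtain ⟨U, hU, hxU, -⟩ := exists_isAffineOpen_mem_and_subset (U := (⊤ : Y.Opens)) (x := f x) trivial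
  obtain ⟨V, hV, hxV, e⟩ := exists_isAffineOpen_mem_and_subset (U := f ⁻¹ᵁ U) (x := x) hxU
  refine ⟨⟨U, hU⟩, ⟨V, hV⟩, hxV, e, ?_⟩
  letI := (f.appLE U V e).hom.toAlgebra
  haveI : Algebra.FiniteType Γ(Y, U) Γ(X, V) := f.finiteType_appLE hU hV e
  exact Algebra.EssFiniteType.of_finiteType Γ(Y, U) Γ(X, V)

theorem exists_common_open {X Y₁ Y₂ S : Scheme.{u}} [IsNoetherian X] [IsNoetherian Y₁] [IsNoetherian Y₂] [IsNoetherian S]
    (f₁ : X ⟶ Y₁) (f₂ : X ⟶ Y₂) (π₁ : Y₁ ⟶ S) (π₂ : Y₂ ⟶ S)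
    (hf₁ : LocImm.IsLocImmersion f₁) (hf₂ : LocImm.IsLocImmersion f₂)
    [IsSeparated π₁] [IsSeparated π₂] [LocallyOfFiniteType π₁] [LocallyOfFiniteType π₂] (h : f₁ ≫ π₁ = f₂ ≫ π₂) :
    ∃ (W : Scheme.{u}) (k : X ⟶ W) (g₁ : W ⟶ Y₁) (g₂ : W ⟶ Y₂), IsNoetherian W ∧ LocImm.IsLocImmersion k ∧
      IsOpenImmersion g₁ ∧ IsOpenImmersion g₂ ∧ g₁ ≫ π₁ = g₂ ≫ π₂ ∧ k ≫ g₁ = f₁ ∧ k ≫ g₂ = f₂ := by
  let P := pullback π₁ π₂
  let k₀ : X ⟶ P := pullback.lift f₁ f₂ h
  haveI : IsLocallyNoetherian P := LocallyOfFiniteType.isLocallyNoetherian (pullback.fst π₁ π₂)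
  haveI : CompactSpace P := QuasiCompact.compactSpace_of_compactSpace (pullback.fst π₁ π₂)
  haveI : IsNoetherian P := {}
  let Y' := k₀.image
  let q₁ : Y' ⟶ Y₁ := k₀.imageι ≫ pullback.fst π₁ π₂
  let q₂ : Y' ⟶ Y₂ := k₀.imageι ≫ pullback.snd π₁ π₂
  haveI : IsLocallyNoetherian Y' := LocallyOfFiniteType.isLocallyNoetherian k₀.imageι
  haveI : CompactSpace Y' := QuasiCompact.compactSpace_of_compactSpace k₀.imageι
  haveI : IsNoetherian Y' := {}
  have hd : ∀ U : Y'.Opens, Function.Injective (k₀.toImage.app U).hom :=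
    (TopCat.Presheaf.app_injective_iff_stalkFunctor_map_injective (F := Y'.sheaf) k₀.toImage.c).mp
      k₀.stalkFunctor_toImage_injective
  have e₁ : k₀.toImage ≫ q₁ = f₁ := by simp [q₁, k₀]
  have e₂ : k₀.toImage ≫ q₂ = f₂ := by simp [q₂, k₀]
  have hk' : LocImm.IsLocImmersion k₀.toImage :=
    Groth.Agent.S18195.result k₀.toImage q₁ (by rw [e₁]; exact hf₁) hd
  obtain ⟨U₁, hU₁, hl₁⟩ := exists_open_isLocImmersion k₀.toImage q₁ hk' (by rw [e₁]; exact hf₁)
  obtain ⟨U₂, hU₂, hl₂⟩ := exists_open_isLocImmersion k₀.toImage q₂ hk' (by rw [e₂]; exact hf₂)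
  let W : Y'.Opens := U₁ ⊓ U₂
  haveI : CompactSpace W.toScheme := W.ι.isOpenEmbedding.isInducing.noetherianSpace.compactSpace
  haveI : IsNoetherian W.toScheme := {}
  have g₁ : IsOpenImmersion (W.ι ≫ q₁) := by
    refine Groth.Agent.S18204.result _ ?_
    rw [← Y'.homOfLE_ι (inf_le_left : W ≤ U₁), Category.assoc]
    exact isLocImmersion_openImmersion_comp _ hl₁
  have g₂ : IsOpenImmersion (W.ι ≫ q₂) := by
    refine Groth.Agent.S18204.result _ ?_
    rw [← Y'.homOfLE_ι (inf_le_right : W ≤ U₂), Category.assoc]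
    exact isLocImmersion_openImmersion_comp _ hl₂
  have hr : Set.range k₀.toImage ⊆ Set.range W.ι := by
    rw [Scheme.Opens.range_ι]
    exact fun y hy => ⟨hU₁ hy, hU₂ hy⟩
  refine ⟨W, IsOpenImmersion.lift W.ι k₀.toImage hr, W.ι ≫ q₁, W.ι ≫ q₂, inferInstance,
    isLocImmersion_of_comp_openImmersion W.ι (by rw [IsOpenImmersion.lift_fac]; exact hk'), g₁, g₂, ?_, ?_, ?_⟩
  · simp [q₁, q₂, pullback.condition]
  · rw [IsOpenImmersion.lift_fac_assoc, e₁]
  · rw [IsOpenImmersion.lift_fac_assoc, e₂]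

/-- A noetherian-space lemma: closures of projections avoid stable sets. -/
theorem disjoint_closure_image {P Y : Scheme.{u}} [IsNoetherian P] (f : P ⟶ Y) {D A : Set P} {B : Set Y}
    (hD : IsClosed D) (hA : StableUnderGeneralization A) (hB : StableUnderGeneralization B)
    (h : ∀ d ∈ D, d ∈ A → f d ∉ B) : ∀ y ∈ closure (f '' (D ∩ A)), y ∉ B := by
  intro y hy hyB
  obtain ⟨S, hSf, hSc, hSi, hSU⟩ := NoetherianSpace.exists_finite_set_isClosed_irreducible (isClosed_closure (s := D ∩ A))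
  have hy' : y ∈ closure (f '' ⋃ C ∈ {C ∈ S | (C ∩ (D ∩ A)).Nonempty}, C) := by
    refine closure_mono (Set.image_mono fun z hz => ?_) hy
    have := subset_closure hz
    rw [hSU] at this
    obtain ⟨C, hC, hzC⟩ := this
    exact Set.mem_biUnion (x := C) ⟨hC, z, hzC, hz⟩ hzC
  rw [Set.image_iUnion₂, (hSf.subset (Set.sep_subset _ _)).closure_biUnion] at hy'
  simp only [Set.mem_iUnion] at hy'
  obtain ⟨C, ⟨hC, z, hzC, hz⟩, hyC⟩ := hy'
  obtain ⟨η, hη⟩ := QuasiSober.sober (hSi C hC) (hSc C hC)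
  have hηD : η ∈ D := by
    have : η ∈ closure (D ∩ A) := by rw [hSU]; exact ⟨C, hC, hη.mem⟩
    exact hD.closure_subset (closure_mono Set.inter_subset_left this)
  have h1 : f η ⤳ y := by
    refine specializes_iff_mem_closure.mpr (closure_minimal ?_ isClosed_closure hyC)
    rintro _ ⟨c, hc, rfl⟩
    exact specializes_iff_mem_closure.mp ((hη.specializes hc).map f.continuous)
  exact h η hηD (hA (hη.specializes hzC) hz.2) (hB h1 hyB)

end Groth.Agent.LocImmersion
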