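import Groth.Agent.LocImmersion.Local

/-! Spectra of localizing ring maps; the section lemma for separated morphisms. -/

set_option autoImplicit false
set_option backward.isDefEq.respectTransparency false
set_option backward.isDefEq.respectTransparency.types false

universe u
open CategoryTheory Limits AlgebraicGeometry TopologicalSpace IsLocalRing

namespace Groth.Agent.LocImmersion

theorem isLocHom_of_bijective {A B : Type*} [CommRing A] [CommRing B] (φ : A →+* B) (h : Function.Bijective φ) :
    LocImm.IsLocHom φ :=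
  (isLocHom_iff φ).mpr ⟨fun b => ⟨(h.2 b).choose, 1, by simp, by simp [(h.2 b).choose_spec]⟩,
    fun a a' e => ⟨1, by simp, by rw [h.1 e]⟩⟩

theorem isLocImmersion_SpecMap {A B : CommRingCat.{u}} (φ : A ⟶ B) (hφ : LocImm.IsLocHom φ.hom) :
    LocImm.IsLocImmersion (Spec.map φ) := by
  refine ⟨fun x => ⟨⟨⊤, isAffineOpen_top _⟩, ⟨⊤, isAffineOpen_top _⟩, trivial, le_rfl, ?_⟩, ?_⟩
  · rw [show (Spec.map φ).appLE ⊤ ⊤ le_rfl = (Scheme.ΓSpecIso A).hom ≫ φ ≫ (Scheme.ΓSpecIso B).inv from ?_]
    · simp only [CommRingCat.hom_comp]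
      exact isLocHom_comp (isLocHom_of_bijective _ (Scheme.ΓSpecIso A).commRingCatIsoToRingEquiv.bijective)
        (isLocHom_comp hφ (isLocHom_of_bijective _ (Scheme.ΓSpecIso B).commRingCatIsoToRingEquiv.symm.bijective))
    · change (Spec.map φ).appLE ⊤ ((Spec.map φ) ⁻¹ᵁ ⊤) le_rfl = _
      rw [Scheme.Hom.appLE_eq_app]
      change (Spec.map φ).appTop = _
      rw [← cancel_mono (Scheme.ΓSpecIso B).hom, Scheme.ΓSpecIso_naturality]
      simp
  · letI := φ.hom.toAlgebra
    obtain ⟨S, hS⟩ := hφ
    exact PrimeSpectrum.localization_comap_injective B S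

/-- A section of a separated morphism has closed range. -/
theorem isClosed_range_section {P T : Scheme.{u}} (p : P ⟶ T) [IsSeparated p] (σ : T ⟶ P) (h : σ ≫ p = 𝟙 T) :
    IsClosed (Set.range σ) := by
  have : IsClosedImmersion (σ ≫ p) := by rw [h]; infer_instance
  have := IsClosedImmersion.of_comp σ p
  exact σ.isClosedEmbedding.isClosed_range

end Groth.Agent.LocImmersion
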