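import Groth.Prelude.Def_EssFT
import Groth.Agent.LocImmersion.SpecLoc
import Groth.Agent.LocImmersion.Injective

/-! Separated universally closed morphisms essentially of finite type are locally of finite type. -/

set_option autoImplicit false
set_option backward.isDefEq.respectTransparency false
set_option backward.isDefEq.respectTransparency.types false

universe u
open CategoryTheory Limits AlgebraicGeometry TopologicalSpace IsLocalRing

namespace Groth.Agent.LocImmersion

/-- A localizing immersion factor of an open piece of a universally closed separated morphism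
is an open immersion. -/
theorem isOpenImmersion_of_universallyClosed {V X Z Y : Scheme.{u}} [IsNoetherian V] [IsNoetherian Z]
    (ι : V ⟶ X) [IsOpenImmersion ι] (i : V ⟶ Z) (hi : LocImm.IsLocImmersion i) (g : Z ⟶ Y) [IsSeparated g]
    (f : X ⟶ Y) [IsSeparated f] [UniversallyClosed f] (w : ι ≫ f = i ≫ g) : IsOpenImmersion i := by
  let P := pullback f g
  let p : P ⟶ Z := pullback.snd f g
  let q : P ⟶ X := pullback.fst f g
  let j : V ⟶ P := pullback.lift ι i w
  haveI : IsSeparated p := inferInstanceAs (IsSeparated (pullback.snd f g))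
  -- the graph is closed in the open piece over `V`
  have hA : ∀ γ ∈ closure (Set.range j), q γ ∈ Set.range ι → γ ∈ Set.range j := by
    intro γ hγ hq
    let k := pullback.fst q ι
    let σ : V ⟶ pullback q ι := pullback.lift j (𝟙 V) (by simp [j, q])
    have hσ : IsClosed (Set.range σ) := by
      refine @isClosed_range_section _ _ (pullback.snd q ι) ?_ σ (by simp [σ])
      haveI : IsSeparated q := inferInstanceAs (IsSeparated (pullback.fst f g))
      infer_instance
    have hk : γ ∈ Set.range k := by
      rw [IsOpenImmersion.range_pullbackFst]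
      exact hq
    obtain ⟨γ', rfl⟩ := hk
    have h1 : Set.range j = k '' Set.range σ := by
      rw [← Set.range_comp, ← TopCat.coe_comp, ← Scheme.Hom.comp_base]
      simp [σ, k]
    rw [h1] at hγ ⊢
    have : γ' ∈ closure (Set.range σ) := by
      rw [k.isOpenEmbedding.isEmbedding.closure_eq_preimage_closure_image]
      exact hγ
    rw [hσ.closure_eq] at this
    exact ⟨γ', this, rfl⟩
  -- the fibre of the closure of the graph over a point of the image
  have hB : ∀ γ ∈ closure (Set.range j), ∀ v : V, p γ = i v → γ = j v := by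
    intro γ hγ v hv
    obtain ⟨s, hs, hsi, hsv, -⟩ := exists_lift hi.1 (rfl : i v = i v)
    obtain ⟨S, hSf, hSc, hSi, hSU⟩ := NoetherianSpace.exists_finite_set_isClosed_irreducible (isClosed_univ (X := V))
    have hcl : γ ∈ ⋃ C ∈ S, closure (j '' C) := by
      rw [← hSf.closure_biUnion, ← Set.image_iUnion₂, ← Set.sUnion_eq_biUnion, ← hSU, Set.image_univ]
      exact hγ
    simp only [Set.mem_iUnion] at hcl
    obtain ⟨C, hC, hγC⟩ := hcl
    obtain ⟨η, hη⟩ := QuasiSober.sober (hSi C hC) (hSc C hC)
    have hjη : j η ⤳ γ := by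
      refine specializes_iff_mem_closure.mpr (closure_minimal ?_ isClosed_closure hγC)
      rintro _ ⟨c, hc, rfl⟩
      exact specializes_iff_mem_closure.mp ((hη.specializes hc).map j.continuous)
    have hiη : i η ⤳ i v := by
      have := hjη.map p.continuous
      rwa [hv, ← Scheme.Hom.comp_apply, show j ≫ p = i by simp [j, p]] at this
    let t := Z.fromSpecStalk (i v)
    let σ : Spec (Z.presheaf.stalk (i v)) ⟶ pullback p t :=
      pullback.lift (s ≫ j) (𝟙 _) (by simp [j, p, t, hsi])
    have hσ : IsClosed (Set.range σ) := isClosed_range_section (pullback.snd p t) σ (by simp [σ])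
    have hσk : σ ≫ pullback.fst p t = s ≫ j := by simp [σ]
    obtain ⟨γ', hγ'⟩ : γ ∈ Set.range (pullback.fst p t) := by
      rw [Scheme.Pullback.range_fst, Set.mem_preimage, Scheme.range_fromSpecStalk, hv]
      exact specializes_rfl
    obtain ⟨e, he⟩ : i η ∈ Set.range t := by rw [Scheme.range_fromSpecStalk]; exact hiη
    have hse : s e = η := hi.2 (by
      change i (s e) = i η
      rw [← he, ← Scheme.Hom.comp_apply, hsi])
    have h2 : σ e ⤳ γ' := by
      rw [← (pullback.fst p t).isEmbedding.isInducing.specializes_iff, ← Scheme.Hom.comp_apply, hσk,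
        Scheme.Hom.comp_apply, hse, hγ']
      exact hjη
    obtain ⟨c, rfl⟩ := specializes_iff_forall_closed.mp h2 _ hσ ⟨e, rfl⟩
    rw [← Scheme.Hom.comp_apply, hσk, Scheme.Hom.comp_apply] at hγ'
    have : s c = v := hi.2 (by
      refine Eq.trans ?_ ((congrArg p hγ').trans hv)
      change i (s c) = p (j (s c))
      rw [← Scheme.Hom.comp_apply j p, show j ≫ p = i by simp [j, p]])
    rw [← hγ', this]
  -- the open subset of `Z`
  let D : Set P := closure (Set.range j) \ q ⁻¹' Set.range ι
  have hD : IsClosed D := isClosed_closure.sdiff (ι.isOpenEmbedding.isOpen_range.preimage q.continuous)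
  let W : Z.Opens := ⟨(p '' D)ᶜ, (p.isClosedMap D hD).isOpen_compl⟩
  have hrW : Set.range i ⊆ W := by
    rintro _ ⟨v, rfl⟩ ⟨γ, ⟨hγ, hn⟩, hv⟩
    refine hn ⟨v, ?_⟩
    rw [hB γ hγ v hv, ← Scheme.Hom.comp_apply, show j ≫ q = ι by simp [j, q]]
  let i' : V ⟶ W := IsOpenImmersion.lift W.ι i (by simpa using hrW)
  have hi' : i' ≫ W.ι = i := IsOpenImmersion.lift_fac _ _ _
  haveI : SurjectiveOnStalks i := surjectiveOnStalks hi.1
  haveI hst : ∀ v, IsIso (i'.stalkMap v) := fun v => by
    have h := Scheme.Hom.stalkMap_comp i' W.ι v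
    have : IsIso ((i' ≫ W.ι).stalkMap v) := by rw [hi']; exact isIso_stalkMap hi.1 v
    rw [h] at this
    exact IsIso.of_isIso_comp_left (W.ι.stalkMap (i' v)) _
  have hinj : Function.Injective i' := fun a b e => hi.2 (show i a = i b by simp [← hi', e])
  have hemb : Topology.IsEmbedding i' := by
    refine Topology.IsEmbedding.of_comp i'.continuous W.ι.continuous ?_
    rw [← TopCat.coe_comp, ← Scheme.Hom.comp_base, hi']
    exact isEmbedding hi
  have hpre : Set.range i' = W.ι ⁻¹' Set.range i := by
    rw [← hi', Scheme.Hom.comp_base, TopCat.coe_comp, Set.range_comp,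
      Set.preimage_image_eq _ W.ι.isOpenEmbedding.injective]
  have hgen : StableUnderGeneralization (Set.range i') := by
    rw [hpre]
    exact (stableUnderGeneralization_range hi.1).preimage W.ι.continuous
  have hclosed : IsClosed (Set.range i') := by
    rw [hpre]
    have : W.ι ⁻¹' Set.range i = W.ι ⁻¹' (p '' closure (Set.range j)) := by
      ext w
      constructor
      · rintro ⟨v, hv⟩
        exact ⟨j v, subset_closure ⟨v, rfl⟩, by rw [← hv, ← Scheme.Hom.comp_apply, show j ≫ p = i by simp [j, p]]⟩
      · rintro ⟨γ, hγ, hw⟩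
        by_cases hn : q γ ∈ Set.range ι
        · obtain ⟨v, rfl⟩ := hA γ hγ hn
          exact ⟨v, by rw [← hw, ← Scheme.Hom.comp_apply, show j ≫ p = i by simp [j, p]]⟩
        · exact absurd (show W.ι w ∈ p '' D from ⟨γ, ⟨hγ, hn⟩, hw⟩) (by
            have h : W.ι w ∈ W := w.2
            exact h)
    rw [this]
    exact (p.isClosedMap _ isClosed_closure).preimage W.ι.continuous
  haveI : IsLocallyNoetherian (W : Scheme) := isLocallyNoetherian_of_isOpenImmersion W.ι
  haveI : CompactSpace (W : Scheme) := W.ι.isOpenEmbedding.isInducing.noetherianSpace.compactSpace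
  haveI : IsNoetherian (W : Scheme) := {}
  haveI : IsOpenImmersion i' := IsOpenImmersion.of_isIso_stalkMap i'
    ⟨hemb, isOpen_of_isClosed_of_stableUnderGeneralization hclosed hgen⟩
  rw [← hi']
  infer_instance

theorem locallyOfFiniteType {X Y : Scheme.{u}} [IsNoetherian X] [IsNoetherian Y] (f : X ⟶ Y) [IsSeparated f]
    [UniversallyClosed f] [EssFT.EssFiniteType f] : LocallyOfFiniteType f := by
  have key : ∀ x : X, ∃ (V : Scheme.{u}) (ι : V ⟶ X) (_ : IsOpenImmersion ι), x ∈ Set.range ι ∧ LocallyOfFiniteType (ι ≫ f) := by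
    intro x
    obtain ⟨⟨U, hU⟩, ⟨V, hV⟩, hx, e, hess⟩ := EssFT.LocallyEssFiniteType.exists_appLE_essFiniteType (f := f) x
    simp only at hx e hess
    let φ := (f.appLE U V e).hom
    letI : Algebra Γ(Y, U) Γ(X, V) := φ.toAlgebra
    haveI : Algebra.EssFiniteType Γ(Y, U) Γ(X, V) := hess
    let C := Algebra.EssFiniteType.subalgebra Γ(Y, U) Γ(X, V)
    let α : CommRingCat.of Γ(Y, U) ⟶ CommRingCat.of C := CommRingCat.ofHom (algebraMap Γ(Y, U) C)
    let β : CommRingCat.of C ⟶ Γ(X, V) := CommRingCat.ofHom (algebraMap C Γ(X, V))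
    have hαβ : α ≫ β = f.appLE U V e := CommRingCat.hom_ext (IsScalarTower.algebraMap_eq Γ(Y, U) C Γ(X, V)).symm
    haveI : IsNoetherianRing Γ(Y, U) := IsLocallyNoetherian.component_noetherian ⟨U, hU⟩
    haveI : IsNoetherianRing Γ(X, V) := IsLocallyNoetherian.component_noetherian ⟨V, hV⟩
    haveI : IsNoetherianRing C := Algebra.FiniteType.isNoetherianRing Γ(Y, U) C
    have hloc : LocImm.IsLocImmersion (Spec.map β) :=
      isLocImmersion_SpecMap β (isLocHom_of_isLocalization (Algebra.EssFiniteType.submonoid Γ(Y, U) Γ(X, V)))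
    haveI : LocallyOfFiniteType (Spec.map α) :=
      HasRingHomProperty.Spec_iff.mpr (RingHom.finiteType_algebraMap.mpr inferInstance)
    haveI := isOpenImmersion_of_universallyClosed hV.fromSpec (Spec.map β) hloc (Spec.map α ≫ hU.fromSpec) f
      (by rw [← Spec.map_comp_assoc, hαβ, hU.SpecMap_appLE_fromSpec _ hV])
    refine ⟨Spec Γ(X, V), hV.fromSpec, inferInstance, by rw [hV.range_fromSpec]; exact hx, ?_⟩
    rw [← hU.SpecMap_appLE_fromSpec f hV e, ← hαβ, Spec.map_comp, Category.assoc]
    infer_instance
  choose V ι hι hx hft using key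
  let 𝒰 : X.OpenCover :=
    { I₀ := X, X := V, f := ι,
      mem₀ := by
        rw [Scheme.presieve₀_mem_precoverage_iff]
        exact ⟨fun x => ⟨x, hx x⟩, hι⟩ }
  exact IsZariskiLocalAtSource.of_openCover 𝒰 hft

end Groth.Agent.LocImmersion
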