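import Mathlib
import Groth.Prelude.Def_W4c5cptfessfintypeLocImm

/-! Criteria for localizing ring maps. -/

set_option autoImplicit false

namespace Groth.Agent.LocImmersion

variable {A B C : Type*} [CommRing A] [CommRing B] [CommRing C]

theorem isLocHom_iff (φ : A →+* B) : LocImm.IsLocHom φ ↔
    (∀ b, ∃ a s, IsUnit (φ s) ∧ b * φ s = φ a) ∧
      ∀ a a', φ a = φ a' → ∃ s, IsUnit (φ s) ∧ s * a = s * a' := by
  letI := φ.toAlgebra
  constructor
  · rintro ⟨S, hS⟩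
    refine ⟨fun b => ?_, fun a a' h => ?_⟩
    · obtain ⟨⟨a, s⟩, h⟩ := IsLocalization.surj S b
      exact ⟨a, s.1, IsLocalization.map_units B s, h⟩
    · obtain ⟨s, hs⟩ := IsLocalization.exists_of_eq (M := S) (S := B) h
      exact ⟨s.1, IsLocalization.map_units B s, hs⟩
  · rintro ⟨h1, h2⟩
    refine ⟨(IsUnit.submonoid B).comap φ.toMonoidHom, (isLocalization_iff _ _).mpr ⟨fun y => y.2, fun z => ?_, ?_⟩⟩
    · obtain ⟨a, s, hs, h⟩ := h1 z
      exact ⟨(a, ⟨s, hs⟩), h⟩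
    · intro x y h
      obtain ⟨s, hs, h'⟩ := h2 x y h
      exact ⟨⟨s, hs⟩, h'⟩

theorem isLocHom_of_isLocalization [Algebra A B] (S : Submonoid A) [IsLocalization S B] :
    LocImm.IsLocHom (algebraMap A B) := by
  refine (isLocHom_iff _).mpr ⟨fun b => ?_, fun a a' h => ?_⟩
  · obtain ⟨⟨a, s⟩, h⟩ := IsLocalization.surj S b
    exact ⟨a, s.1, IsLocalization.map_units B s, h⟩
  · obtain ⟨s, hs⟩ := IsLocalization.exists_of_eq (M := S) (S := B) h
    exact ⟨s.1, IsLocalization.map_units B s, hs⟩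

theorem isLocHom_comp {φ : A →+* B} {ψ : B →+* C} (hφ : LocImm.IsLocHom φ) (hψ : LocImm.IsLocHom ψ) :
    LocImm.IsLocHom (ψ.comp φ) := by
  rw [isLocHom_iff] at *
  obtain ⟨h1, h2⟩ := hφ
  obtain ⟨k1, k2⟩ := hψ
  refine ⟨fun c => ?_, fun a a' h => ?_⟩
  · obtain ⟨b, s, hs, hc⟩ := k1 c
    obtain ⟨a₁, s₁, hs₁, hb⟩ := h1 b
    obtain ⟨a₂, s₂, hs₂, hs'⟩ := h1 s
    refine ⟨a₁ * s₂, a₂ * s₁, ?_, ?_⟩
    · simp only [RingHom.comp_apply, map_mul, ← hs', map_mul]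
      exact (hs.mul (hs₂.map ψ)).mul (hs₁.map ψ)
    · simp only [RingHom.comp_apply, map_mul, ← hb, ← hs', ← hc]
      ring
  · obtain ⟨t, ht, hta⟩ := k2 _ _ h
    obtain ⟨u, s, hs, htu⟩ := h1 t
    obtain ⟨r, hr, hra⟩ := h2 (u * a) (u * a') (by
      rw [map_mul, map_mul, ← htu, mul_right_comm, hta, mul_right_comm])
    refine ⟨r * u, ?_, by rw [mul_assoc, hra, mul_assoc]⟩
    simp only [RingHom.comp_apply, map_mul, ← htu]
    exact (hr.map ψ).mul (ht.mul (hs.map ψ))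

theorem isLocHom_of_comp {φ : A →+* B} {ψ : B →+* C} (hφ : LocImm.IsLocHom φ) (h : LocImm.IsLocHom (ψ.comp φ)) :
    LocImm.IsLocHom ψ := by
  rw [isLocHom_iff] at *
  obtain ⟨h1, h2⟩ := hφ
  obtain ⟨k1, k2⟩ := h
  refine ⟨fun c => ?_, fun b b' hb => ?_⟩
  · obtain ⟨a, s, hs, hc⟩ := k1 c
    exact ⟨φ a, φ s, hs, hc⟩
  · obtain ⟨a, s, hs, ha⟩ := h1 b
    obtain ⟨a', s', hs', ha'⟩ := h1 b'
    obtain ⟨t, ht, hta⟩ := k2 (a * s') (a' * s) (by
      simp only [RingHom.comp_apply, map_mul, ← ha, ← ha', hb]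
      ring)
    refine ⟨φ t, ht, ?_⟩
    have := congrArg φ hta
    simp only [map_mul, ← ha, ← ha'] at this
    refine (hs.mul hs').mul_right_cancel ?_
    linear_combination this

theorem isLocHom_of_comp_injective {φ : A →+* B} {ψ : B →+* C} (hψ : Function.Injective ψ)
    (h : LocImm.IsLocHom (ψ.comp φ)) : LocImm.IsLocHom ψ := by
  rw [isLocHom_iff] at *
  refine ⟨fun c => ?_, fun b b' hb => ⟨1, by simp, by rw [hψ hb]⟩⟩
  obtain ⟨a, s, hs, hc⟩ := h.1 c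
  exact ⟨φ a, φ s, hs, hc⟩

end Groth.Agent.LocImmersion
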