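import Groth.Agent.LocImmersion.LocAt

/-! Shrinking the target of a localizing immersion. -/

set_option autoImplicit false
set_option backward.isDefEq.respectTransparency false
set_option backward.isDefEq.respectTransparency.types false

universe u
open CategoryTheory Limits AlgebraicGeometry TopologicalSpace

namespace Groth.Agent.LocImmersion

/-- There is a largest open all of whose maximal points lie in the image. -/
theorem exists_open_maximal_mem_range {X Y : Scheme.{u}} [IsNoetherian Y] {k : X ⟶ Y} (hk : LocImm.IsLocalizing k) :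
    ∃ U : Y.Opens, Set.range k ⊆ (U : Set Y) ∧ ∀ η ∈ U, (∀ y, y ⤳ η → y = η) → η ∈ Set.range k := by
  let S := {Z ∈ irreducibleComponents Y | Disjoint Z (Set.range k)}
  have hB : IsClosed (⋃ Z ∈ S, Z) :=
    ((NoetherianSpace.finite_irreducibleComponents).subset (Set.sep_subset _ _)).isClosed_biUnion
      fun Z hZ => isClosed_of_mem_irreducibleComponents Z hZ.1
  refine ⟨⟨_, hB.isOpen_compl⟩, fun y hy hyB => ?_, fun η hηU hη => ?_⟩
  · simp only [Set.mem_iUnion] at hyB
    obtain ⟨Z, hZ, hyZ⟩ := hyB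
    exact Set.disjoint_left.mp hZ.2 hyZ hy
  · have hnd : ¬ Disjoint (irreducibleComponent η) (Set.range k) := fun hd =>
      hηU (Set.mem_biUnion (x := irreducibleComponent η)
        ⟨irreducibleComponent_mem_irreducibleComponents η, hd⟩ mem_irreducibleComponent)
    obtain ⟨y, hy, hy'⟩ := Set.not_disjoint_iff.mp hnd
    obtain ⟨ξ, hξ⟩ := QuasiSober.sober (isIrreducible_irreducibleComponent (x := η)) (isClosed_irreducibleComponent (x := η))
    obtain rfl : ξ = η := hη ξ (hξ.specializes mem_irreducibleComponent)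
    exact stableUnderGeneralization_range hk (hξ.specializes hy) hy'

theorem exists_open_isLocImmersion {X Y₁ Y₂ : Scheme.{u}} [IsNoetherian Y₁] [IsLocallyNoetherian Y₂]
    (f₁ : X ⟶ Y₁) (g : Y₁ ⟶ Y₂) [IsSeparated g] [EssFT.LocallyEssFiniteType g]
    (hf₁ : LocImm.IsLocImmersion f₁) (hf₂ : LocImm.IsLocImmersion (f₁ ≫ g)) :
    ∃ U : Y₁.Opens, Set.range f₁ ⊆ (U : Set Y₁) ∧ LocImm.IsLocImmersion (U.ι ≫ g) := by
  obtain ⟨U₀, hU₀, hmax⟩ := exists_open_maximal_mem_range hf₁.1
  have hloc : ∀ x, LocAt g (f₁ x) := fun x => by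
    haveI := isIso_stalkMap hf₁.1 x
    have h1 := isIso_stalkMap hf₂.1 x
    rw [Scheme.Hom.stalkMap_comp] at h1
    haveI : IsIso (g.stalkMap (f₁ x)) :=
      @IsIso.of_isIso_comp_right _ _ _ _ _ (g.stalkMap (f₁ x)) (f₁.stalkMap x) inferInstance h1
    exact locAt_of_isIso_stalkMap g (f₁ x)
  let U := locOpen g ⊓ U₀
  have hl : LocImm.IsLocalizing (U.ι ≫ g) := fun w => locAt_comp_of_isOpenImmersion U.ι w.2.1
  refine ⟨U, ?_, hl, ?_⟩
  · rintro _ ⟨x, rfl⟩
    exact ⟨hloc x, hU₀ ⟨x, rfl⟩⟩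
  · refine injective_of_injOn hl ?_
    intro a ha b hb hab
    have key : ∀ a : U.toScheme, (∀ a', a' ⤳ a → a' = a) → ∃ x, f₁ x = a.1 := fun a ha => by
      refine hmax a.1 a.2.2 fun y hy => ?_
      have hyU : y ∈ U := hy.mem_open U.isOpen a.2
      have := ha ⟨y, hyU⟩ ((subtype_specializes_iff _ _).mpr hy)
      exact congrArg Subtype.val this
    obtain ⟨x, hx⟩ := key a ha
    obtain ⟨x', hx'⟩ := key b hb
    have : x = x' := hf₂.2 (by
      change g (f₁ x) = g (f₁ x')
      rw [hx, hx']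
      exact hab)
    subst this
    exact Subtype.ext (hx.symm.trans hx')

end Groth.Agent.LocImmersion
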